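import Groth.Prelude.Def_FilD
import Mathlib.CategoryTheory.Abelian.Refinements
import Mathlib.CategoryTheory.Abelian.Exact
import Mathlib.Algebra.Homology.ShortComplex.ShortExact
import Mathlib.CategoryTheory.Limits.FunctorCategory.EpiMono
import Mathlib.CategoryTheory.Limits.Preserves.Finite

set_option autoImplicit false
set_option linter.unusedSectionVars false
universe v u

open CategoryTheory CategoryTheory.Limits Opposite

namespace Groth.Agent.FilD41

variable {A : Type u} [Category.{v} A] [Abelian A]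

/-- the step map `Fᵖ⁺¹ ⟶ Fᵖ`. -/
abbrev st (F : ℤᵒᵖ ⥤ A) (p : ℤ) : F.obj (op (p + 1)) ⟶ F.obj (op p) := F.map (FilD.stepHom p)

/-- the transition map `F^q ⟶ F^p` for `p ≤ q`. -/
abbrev res (F : ℤᵒᵖ ⥤ A) {p q : ℤ} (h : p ≤ q) : F.obj (op q) ⟶ F.obj (op p) :=
  F.map (homOfLE h).op

lemma res_self (F : ℤᵒᵖ ⥤ A) {p : ℤ} (h : p ≤ p) : res F h = 𝟙 _ :=
  F.map_id (op p)

lemma res_comp (F : ℤᵒᵖ ⥤ A) {p q r : ℤ} (h : p ≤ q) (h' : q ≤ r) :
    res F h' ≫ res F h = res F (h.trans h') :=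
  (F.map_comp _ _).symm

lemma st_eq (F : ℤᵒᵖ ⥤ A) (p : ℤ) : st F p = res F (show p ≤ p + 1 by omega) := rfl

lemma res_succ (F : ℤᵒᵖ ⥤ A) {p q : ℤ} (h : p ≤ q) :
    res F (show p ≤ q + 1 by omega) = st F q ≫ res F h := (res_comp F h _).symm

/-- a natural transformation from its compatibility with steps. -/
def mkHom {F G : ℤᵒᵖ ⥤ A} (g : ∀ p : ℤ, F.obj (op p) ⟶ G.obj (op p))
    (h : ∀ p, st F p ≫ g p = g (p + 1) ≫ st G p) : F ⟶ G where
  app p := g p.unop
  naturality := by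
    rintro ⟨q⟩ ⟨p⟩ f
    have hpq : p ≤ q := leOfHom f.unop
    obtain rfl : f = (homOfLE hpq).op := Subsingleton.elim _ _
    change res F hpq ≫ g p = g q ≫ res G hpq
    obtain ⟨n, rfl⟩ := Int.le.dest hpq
    induction n with
    | zero =>
      obtain e : p + ((0 : ℕ) : ℤ) = p := by simp
      revert hpq
      rw [e]
      intro hpq
      simp [res_self]
    | succ n ih =>
      have e : p + ((n + 1 : ℕ) : ℤ) = p + (n : ℤ) + 1 := by push_cast; omega
      revert hpq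
      rw [e]
      intro hpq
      have hpn : p ≤ p + (n : ℤ) := by omega
      rw [res_succ F hpn, res_succ G hpn, Category.assoc, ih hpn, ← Category.assoc, h,
        Category.assoc]

@[simp] lemma mkHom_app {F G : ℤᵒᵖ ⥤ A} (g : ∀ p : ℤ, F.obj (op p) ⟶ G.obj (op p))
    (h : ∀ p, st F p ≫ g p = g (p + 1) ≫ st G p) (p : ℤ) : (mkHom g h).app (op p) = g p := rfl

lemma st_naturality {F G : ℤᵒᵖ ⥤ A} (φ : F ⟶ G) (p : ℤ) :
    st F p ≫ φ.app (op p) = φ.app (op (p + 1)) ≫ st G p := φ.naturality _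

/-- families built by descending recursion. -/
lemma exists_chain_down {T : ℤ → Type*} (R : ∀ p, T (p + 1) → T p → Prop) (b : ℤ)
    (top : ∀ p, b ≤ p → T p) (htop : ∀ p (h : b ≤ p), R p (top (p + 1) (by omega)) (top p h))
    (step : ∀ p (t : T (p + 1)), ∃ t', R p t t') :
    ∃ g : ∀ p, T p, ∀ p, R p (g (p + 1)) (g p) := by
  choose s hs using step
  let rec' : ∀ (n : ℕ) (p : ℤ), (b - p).toNat ≤ n → T p := fun n =>
    Nat.rec (motive := fun n => ∀ p : ℤ, (b - p).toNat ≤ n → T p)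
      (fun p hp => top p (by have := Nat.le_zero.mp hp; omega))
      (fun n ih p hp => if h : b ≤ p then top p h else s p (ih (p + 1) (by omega))) n
  have hind : ∀ (n m : ℕ) (p : ℤ) (h : (b - p).toNat ≤ n) (h' : (b - p).toNat ≤ m),
      rec' n p h = rec' m p h' := by
    intro n
    induction n with
    | zero =>
      intro m p h h'
      cases m with
      | zero => rfl
      | succ m => exact (dif_pos (show b ≤ p by omega)).symm
    | succ n ih =>
      intro m p h h'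
      cases m with
      | zero => exact dif_pos (show b ≤ p by omega)
      | succ m =>
        by_cases hb : b ≤ p
        · exact (dif_pos hb).trans (dif_pos hb).symm
        · refine (dif_neg hb).trans (Eq.trans ?_ (dif_neg hb).symm)
          exact congrArg (s p) (ih m (p + 1) (by omega) (by omega))
  refine ⟨fun p => rec' _ p le_rfl, fun p => ?_⟩
  change R p (rec' _ (p + 1) le_rfl) (rec' _ p le_rfl)
  by_cases hb : b ≤ p
  · rw [hind _ 0 p le_rfl (by omega), hind _ 0 (p + 1) le_rfl (by omega)]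
    exact htop p hb
  · rw [hind _ ((b - (p + 1)).toNat + 1) p le_rfl (by omega)]
    change R p _ (if h : b ≤ p then _ else _)
    rw [dif_neg hb]
    exact hs p _

/-- families built by ascending recursion. -/
lemma exists_chain_up {T : ℤ → Type*} (R : ∀ n, T n → T (n + 1) → Prop) (a : ℤ)
    (bot : ∀ n, n ≤ a → T n) (hbot : ∀ n (h : n + 1 ≤ a), R n (bot n (by omega)) (bot (n + 1) h))
    (step : ∀ n (t : T n), ∃ t', R n t t') :
    ∃ g : ∀ n, T n, ∀ n, R n (g n) (g (n + 1)) := by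
  choose s hs using step
  let rec' : ∀ (k : ℕ) (n : ℤ), (n - a).toNat ≤ k → T n := fun k =>
    Nat.rec (motive := fun k => ∀ n : ℤ, (n - a).toNat ≤ k → T n)
      (fun n hn => bot n (by have := Nat.le_zero.mp hn; omega))
      (fun k ih n hn => if h : n ≤ a then bot n h else
        (sub_add_cancel n 1) ▸ s (n - 1) (ih (n - 1) (by omega))) k
  have hind : ∀ (k m : ℕ) (n : ℤ) (h : (n - a).toNat ≤ k) (h' : (n - a).toNat ≤ m),
      rec' k n h = rec' m n h' := by
    intro k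
    induction k with
    | zero =>
      intro m n h h'
      cases m with
      | zero => rfl
      | succ m => exact (dif_pos (show n ≤ a by omega)).symm
    | succ k ih =>
      intro m n h h'
      cases m with
      | zero => exact dif_pos (show n ≤ a by omega)
      | succ m =>
        by_cases hb : n ≤ a
        · exact (dif_pos hb).trans (dif_pos hb).symm
        · refine (dif_neg hb).trans (Eq.trans ?_ (dif_neg hb).symm)
          exact congrArg (fun t => (sub_add_cancel n 1) ▸ s (n - 1) t)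
            (ih m (n - 1) (by omega) (by omega))
  let g : ∀ n, T n := fun n => rec' _ n le_rfl
  refine ⟨g, fun n => ?_⟩
  by_cases hb : n + 1 ≤ a
  · have e1 : g n = bot n (by omega) := hind _ 0 n le_rfl (by omega)
    have e2 : g (n + 1) = bot (n + 1) hb := hind _ 0 (n + 1) le_rfl (by omega)
    rw [e1, e2]
    exact hbot n hb
  · have key : ∀ (m : ℤ) (e : m + 1 = n + 1), R n (g n) (e ▸ s m (g m)) := by
      intro m e
      obtain rfl : m = n := by omega
      exact hs m (g m)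
    have e2 : g (n + 1) = (sub_add_cancel (n + 1) 1) ▸ s (n + 1 - 1) (g (n + 1 - 1)) := by
      refine (hind _ ((n + 1 - 1 - a).toNat + 1) (n + 1) le_rfl (by omega)).trans ?_
      exact dif_neg hb
    rw [e2]
    exact key _ _

/-- `grᵖ` as a quotient map. -/
noncomputable def grπ (F : ℤᵒᵖ ⥤ A) (p : ℤ) : F.obj (op p) ⟶ (FilD.gr A p).obj F :=
  cokernel.π (F.map (FilD.stepHom p))

instance (F : ℤᵒᵖ ⥤ A) (p : ℤ) : Epi (grπ F p) :=
  inferInstanceAs (Epi (cokernel.π (F.map (FilD.stepHom p))))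

@[reassoc (attr := simp)]
lemma st_grπ (F : ℤᵒᵖ ⥤ A) (p : ℤ) : st F p ≫ grπ F p = 0 :=
  cokernel.condition _

lemma grπ_lift (F : ℤᵒᵖ ⥤ A) (p : ℤ) {T : A} (x : T ⟶ F.obj (op p)) (hx : x ≫ grπ F p = 0) :
    ∃ (T' : A) (π : T' ⟶ T) (_ : Epi π) (x' : T' ⟶ F.obj (op (p + 1))),
      π ≫ x = x' ≫ st F p :=
  (ShortComplex.exact_cokernel (F.map (FilD.stepHom p))).exact_up_to_refinements x hx

@[reassoc (attr := simp)]
lemma grπ_naturality {F G : ℤᵒᵖ ⥤ A} (φ : F ⟶ G) (p : ℤ) :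
    grπ F p ≫ (FilD.gr A p).map φ = φ.app (op p) ≫ grπ G p :=
  cokernel.π_desc _ _ _

/-- exactness of a graded piece, elementwise. -/
lemma gr_exact_iff (S : ShortComplex (ℤᵒᵖ ⥤ A)) (p : ℤ) :
    (S.map (FilD.gr A p)).Exact ↔
      ∀ ⦃T : A⦄ (y : T ⟶ S.X₂.obj (op p)) (z : T ⟶ S.X₃.obj (op (p + 1))),
        y ≫ S.g.app (op p) = z ≫ st S.X₃ p →
        ∃ (T' : A) (π : T' ⟶ T) (_ : Epi π) (x : T' ⟶ S.X₁.obj (op p))
          (y' : T' ⟶ S.X₂.obj (op (p + 1))),
          π ≫ y = x ≫ S.f.app (op p) + y' ≫ st S.X₂ p := by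
  rw [ShortComplex.exact_iff_exact_up_to_refinements]
  constructor
  · intro h T y z hyz
    obtain ⟨T₁, π₁, hπ₁, (xb : T₁ ⟶ (FilD.gr A p).obj S.X₁),
      (hxb : π₁ ≫ y ≫ grπ S.X₂ p = xb ≫ (FilD.gr A p).map S.f)⟩ := h (y ≫ grπ S.X₂ p) (by
      change (y ≫ grπ S.X₂ p) ≫ (FilD.gr A p).map S.g = 0
      rw [Category.assoc, grπ_naturality, reassoc_of% hyz, st_grπ, comp_zero])
    obtain ⟨T₂, π₂, hπ₂, x, hx⟩ := surjective_up_to_refinements_of_epi (grπ S.X₁ p) xb
    have key : (π₂ ≫ π₁ ≫ y - x ≫ S.f.app (op p)) ≫ grπ S.X₂ p = 0 := by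
      have h2 : π₂ ≫ π₁ ≫ y ≫ grπ S.X₂ p = x ≫ S.f.app (op p) ≫ grπ S.X₂ p := by
        refine (congrArg (fun t => π₂ ≫ t) hxb).trans ?_
        rw [reassoc_of% hx, grπ_naturality]
      simp [Preadditive.sub_comp, h2]
    obtain ⟨T₃, π₃, hπ₃, y', hy'⟩ :=
      grπ_lift S.X₂ p _ key
    refine ⟨T₃, π₃ ≫ π₂ ≫ π₁, inferInstance, π₃ ≫ x, y', ?_⟩
    rw [← hy']
    simp
  · intro h T (yb : T ⟶ (FilD.gr A p).obj S.X₂) (hyb : yb ≫ (FilD.gr A p).map S.g = 0)
    obtain ⟨T₁, π₁, hπ₁, y, hy⟩ := surjective_up_to_refinements_of_epi (grπ S.X₂ p) yb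
    have hy0 : (y ≫ S.g.app (op p)) ≫ grπ S.X₃ p = 0 := by
      rw [Category.assoc, ← grπ_naturality, ← reassoc_of% hy, hyb, comp_zero]
    obtain ⟨T₂, π₂, hπ₂, z, hz⟩ :=
      grπ_lift S.X₃ p _ hy0
    obtain ⟨T₃, π₃, hπ₃, x, y', hxy⟩ := h (π₂ ≫ y) z (by simpa using hz)
    refine ⟨T₃, π₃ ≫ π₂ ≫ π₁, inferInstance, x ≫ grπ S.X₁ p, ?_⟩
    change (π₃ ≫ π₂ ≫ π₁) ≫ yb = (x ≫ grπ S.X₁ p) ≫ (FilD.gr A p).map S.f
    have := hxy =≫ grπ S.X₂ p
    simp only [Preadditive.add_comp, Category.assoc, st_grπ, comp_zero, add_zero] at this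
    simp only [Category.assoc, grπ_naturality, hy, this]

/-- injectivity of a graded map, elementwise. -/
lemma gr_mono_iff {F G : ℤᵒᵖ ⥤ A} (φ : F ⟶ G) (p : ℤ) :
    Mono ((FilD.gr A p).map φ) ↔
      ∀ ⦃T : A⦄ (x : T ⟶ F.obj (op p)) (z : T ⟶ G.obj (op (p + 1))),
        x ≫ φ.app (op p) = z ≫ st G p →
        ∃ (T' : A) (π : T' ⟶ T) (_ : Epi π) (x' : T' ⟶ F.obj (op (p + 1))),
          π ≫ x = x' ≫ st F p := by
  constructor
  · intro h T x z hxz
    have h0 : x ≫ grπ F p = 0 := by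
      rw [← cancel_mono ((FilD.gr A p).map φ), zero_comp, Category.assoc, grπ_naturality,
        reassoc_of% hxz, st_grπ, comp_zero]
    exact grπ_lift F p x h0
  · intro h
    refine Preadditive.mono_of_cancel_zero _ (fun {T} xb hxb => ?_)
    obtain ⟨T₁, π₁, hπ₁, x, hx⟩ := surjective_up_to_refinements_of_epi (grπ F p) xb
    have hx0 : (x ≫ φ.app (op p)) ≫ grπ G p = 0 := by
      rw [Category.assoc, ← grπ_naturality, ← reassoc_of% hx, hxb, comp_zero]
    obtain ⟨T₂, π₂, hπ₂, z, hz⟩ :=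
      grπ_lift G p _ hx0
    obtain ⟨T₃, π₃, hπ₃, x', hx'⟩ := h (π₂ ≫ x) z (by simpa using hz)
    rw [← cancel_epi (π₃ ≫ π₂ ≫ π₁), comp_zero]
    simp only [Category.assoc, hx, reassoc_of% hx', st_grπ, comp_zero]

lemma factors_image {X Y : A} (f : X ⟶ Y) {T T' : A} (π : T' ⟶ T) [Epi π] (w : T ⟶ Y)
    (x : T' ⟶ X) (h : π ≫ w = x ≫ f) :
    ∃ a : T ⟶ (imageSubobject f : A), a ≫ (imageSubobject f).arrow = w := by
  have : StrongEpi π := strongEpi_of_epi π
  have sq : CommSq (x ≫ factorThruImageSubobject f) π (imageSubobject f).arrow w :=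
    ⟨by simp [h]⟩
  exact ⟨sq.lift, sq.fac_right⟩

/-- strictness, elementwise. -/
lemma isStrict_iff {X Y : FilD.FilF A} (φ : X ⟶ Y) :
    FilD.IsStrict φ ↔ ∀ (p q : ℤ) (h : p ≤ q) ⦃T : A⦄ (x : T ⟶ X.obj.obj (op p))
      (y : T ⟶ Y.obj.obj (op q)), x ≫ φ.hom.app (op p) = y ≫ res Y.obj h →
      ∃ (T' : A) (π : T' ⟶ T) (_ : Epi π) (x' : T' ⟶ X.obj.obj (op q)),
        π ≫ y = x' ≫ φ.hom.app (op q) := by
  constructor
  · intro hs p q h T x y hxy
    have : Mono (Y.obj.map (homOfLE h).op) := Y.property.1 _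
    have hf : (imageSubobject (φ.hom.app (op p)) ⊓ Subobject.mk (res Y.obj h)).Factors
        (y ≫ res Y.obj h) := by
      rw [Subobject.inf_factors]
      refine ⟨?_, (Subobject.mk_factors_iff _ _).2 ⟨y, rfl⟩⟩
      rw [← hxy]
      exact Subobject.factors_of_le _ (le_refl _)
        (imageSubobject_factors_comp_self _ _)
    rw [← hs p q h] at hf
    obtain ⟨T', π, hπ, x', hx'⟩ := surjective_up_to_refinements_of_epi
      (factorThruImageSubobject (φ.hom.app (op q) ≫ Y.obj.map (homOfLE h).op))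
      (Subobject.factorThru _ _ hf)
    refine ⟨T', π, hπ, x', ?_⟩
    rw [← cancel_mono (Y.obj.map (homOfLE h).op)]
    have := hx' =≫ (imageSubobject _).arrow
    simpa [res] using this
  · intro H p q h
    have hm : Mono (Y.obj.map (homOfLE h).op) := Y.property.1 _
    refine le_antisymm (le_inf ?_ ?_) ?_
    · refine imageSubobject_le _ (res X.obj h ≫ factorThruImageSubobject _) ?_
      simp [res]
    · refine imageSubobject_le _ (φ.hom.app (op q) ≫ (Subobject.underlyingIso _).inv) ?_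
      simp
    · let W := imageSubobject (φ.hom.app (op p)) ⊓ Subobject.mk (Y.obj.map (homOfLE h).op)
      obtain ⟨hW1, hW2⟩ := (Subobject.inf_factors W.arrow).1 W.factors_self
      obtain ⟨(y : (W : A) ⟶ Y.obj.obj (op q)),
        (hy : y ≫ Y.obj.map (homOfLE h).op = W.arrow)⟩ := (Subobject.mk_factors_iff _ _).1 hW2
      obtain ⟨T₁, π₁, hπ₁, x, hx⟩ := surjective_up_to_refinements_of_epi
        (factorThruImageSubobject (φ.hom.app (op p))) (Subobject.factorThru _ _ hW1)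
      have hx2 := hx =≫ (imageSubobject _).arrow
      simp only [Category.assoc, Subobject.factorThru_arrow, imageSubobject_arrow_comp] at hx2
      obtain ⟨T₂, π₂, hπ₂, x', hx'⟩ := H p q h x (π₁ ≫ y) (by simp [res, hy, hx2])
      obtain ⟨a, ha⟩ := factors_image (φ.hom.app (op q) ≫ Y.obj.map (homOfLE h).op) (π₂ ≫ π₁)
        W.arrow x' (by rw [← hy]; simp [← reassoc_of% hx'])
      exact Subobject.le_of_comm a ha

/-- it suffices to test strictness one step at a time from a fixed source. -/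
lemma isStrict_of_step {X Y : FilD.FilF A} (φ : X ⟶ Y)
    (H : ∀ (q : ℤ) ⦃T : A⦄ (x : T ⟶ X.obj.obj (op q)) (y : T ⟶ Y.obj.obj (op (q + 1))),
      x ≫ φ.hom.app (op q) = y ≫ st Y.obj q →
      ∃ (T' : A) (π : T' ⟶ T) (_ : Epi π) (x' : T' ⟶ X.obj.obj (op (q + 1))),
        π ≫ y = x' ≫ φ.hom.app (op (q + 1))) :
    FilD.IsStrict φ := by
  rw [isStrict_iff]
  intro p q h
  obtain ⟨n, rfl⟩ := Int.le.dest h
  revert h
  induction n with
  | zero =>
    have e : p + ((0 : ℕ) : ℤ) = p := by simp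
    rw [e]
    intro h T x y hxy
    exact ⟨T, 𝟙 T, inferInstance, x, by simp [hxy, res_self]⟩
  | succ n ih =>
    have e : p + ((n + 1 : ℕ) : ℤ) = p + (n : ℤ) + 1 := by push_cast; omega
    rw [e]
    intro h T x y hxy
    obtain ⟨T₁, π₁, hπ₁, x₁, hx₁⟩ := ih (by omega) x (y ≫ st Y.obj (p + (n : ℤ))) (by
      rw [Category.assoc, ← res_succ Y.obj (show p ≤ p + (n : ℤ) by omega)]
      exact hxy)
    obtain ⟨T₂, π₂, hπ₂, x', hx'⟩ := H _ x₁ (π₁ ≫ y) (by simpa using hx₁.symm)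
    exact ⟨T₂, π₂ ≫ π₁, inferInstance, x', by simpa using hx'⟩

/-- a low index below which all transition maps are isomorphisms. -/
lemma exists_low (X : FilD.FilF A) : ∃ a : ℤ, ∀ p, p ≤ a → IsIso (st X.obj p) := by
  obtain ⟨a, ha⟩ := X.property.2.2
  refine ⟨a - 1, fun p hp => ha _ ?_⟩
  change p + 1 ≤ a
  omega

lemma exists_high (X : FilD.FilF A) : ∃ b : ℤ, ∀ p, b ≤ p → IsZero (X.obj.obj (op p)) :=
  X.property.2.1

lemma mono_st (X : FilD.FilF A) (p : ℤ) : Mono (st X.obj p) := X.property.1 _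

lemma mono_res (X : FilD.FilF A) {p q : ℤ} (h : p ≤ q) : Mono (res X.obj h) := X.property.1 _

/-- S1085. -/
lemma exact_and_strict_of_gr (S : ShortComplex (FilD.FilF A))
    (hS : ∀ p : ℤ, (S.map (FilD.grF A p)).Exact) :
    (∀ p : ℤ, (S.map ((FilD.IsFinFil A).ι ⋙ (evaluation ℤᵒᵖ A).obj (op p))).Exact) ∧
      FilD.IsStrict S.f ∧ FilD.IsStrict S.g := by
  have hS' : ∀ p, ((S.map (FilD.IsFinFil A).ι).map (FilD.gr A p)).Exact := hS
  have hfg : ∀ p, S.f.hom.app (op p) ≫ S.g.hom.app (op p) = 0 := fun p =>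
    congr_arg (fun t : S.X₁ ⟶ S.X₃ => t.hom.app (op p)) S.zero
  obtain ⟨b, hb⟩ := exists_high S.X₂
  have hlev : ∀ (n : ℕ) (p : ℤ), b ≤ p + n → ∀ ⦃T : A⦄ (y : T ⟶ S.X₂.obj.obj (op p)),
      y ≫ S.g.hom.app (op p) = 0 →
      ∃ (T' : A) (π : T' ⟶ T) (_ : Epi π) (x : T' ⟶ S.X₁.obj.obj (op p)),
        π ≫ y = x ≫ S.f.hom.app (op p) := by
    intro n
    induction n with
    | zero =>
      intro p hp T y _
      exact ⟨T, 𝟙 T, inferInstance, 0, (hb p (by omega)).eq_of_tgt _ _⟩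
    | succ n ih =>
      intro p hp T y hy
      obtain ⟨T₁, π₁, hπ₁, (x : T₁ ⟶ S.X₁.obj.obj (op p)), (y' : T₁ ⟶ S.X₂.obj.obj (op (p + 1))),
          (hxy : π₁ ≫ y = x ≫ S.f.hom.app (op p) + y' ≫ st S.X₂.obj p)⟩ :=
        (gr_exact_iff _ p).1 (hS' p) y 0 (hy.trans zero_comp.symm)
      have := mono_st S.X₃ p
      obtain ⟨T₂, π₂, hπ₂, x', hx'⟩ := ih (p + 1) (by omega) y' (by
        rw [← cancel_mono (st S.X₃.obj p), zero_comp, Category.assoc,
          ← st_naturality S.g.hom p]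
        have := hxy =≫ S.g.hom.app (op p)
        simpa [Category.assoc, hy, hfg] using this.symm)
      refine ⟨T₂, π₂ ≫ π₁, inferInstance, π₂ ≫ x + x' ≫ st S.X₁.obj p, ?_⟩
      simp only [Category.assoc, hxy, Preadditive.comp_add, reassoc_of% hx',
        Preadditive.add_comp, st_naturality S.f.hom p]
  refine ⟨fun p => ?_, ?_, ?_⟩
  · rw [ShortComplex.exact_iff_exact_up_to_refinements]
    intro T y hy
    exact hlev (b - p).toNat p (by omega) y hy
  · refine isStrict_of_step _ (fun q T x y hxy => ?_)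
    have := mono_st S.X₃ q
    refine hlev (b - (q + 1)).toNat (q + 1) (by omega) y ?_
    rw [← cancel_mono (st S.X₃.obj q), zero_comp, Category.assoc, ← st_naturality S.g.hom q,
      ← reassoc_of% hxy, hfg, comp_zero]
  · refine isStrict_of_step _ (fun q T y z hyz => ?_)
    obtain ⟨T₁, π₁, hπ₁, (x : T₁ ⟶ S.X₁.obj.obj (op q)), (y' : T₁ ⟶ S.X₂.obj.obj (op (q + 1))),
      (hxy : π₁ ≫ y = x ≫ S.f.hom.app (op q) + y' ≫ st S.X₂.obj q)⟩ :=
      (gr_exact_iff _ q).1 (hS' q) y z hyz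
    have := mono_st S.X₃ q
    refine ⟨T₁, π₁, hπ₁, y', ?_⟩
    rw [← cancel_mono (st S.X₃.obj q), Category.assoc, Category.assoc,
      ← st_naturality S.g.hom q, ← hyz]
    have := hxy =≫ S.g.hom.app (op q)
    simpa [Category.assoc, hfg] using this

/-- S1086. -/
lemma isStrict_iff_gr_kernel_exact {X Y : FilD.FilF A} (φ : X ⟶ Y) :
    FilD.IsStrict φ ↔
      ∀ p : ℤ, ((ShortComplex.mk (kernel.ι φ.hom) φ.hom (kernel.condition φ.hom)).map
        (FilD.gr A p)).Exact := by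
  constructor
  · intro hs p
    rw [gr_exact_iff]
    intro T (y : T ⟶ X.obj.obj (op p)) (z : T ⟶ Y.obj.obj (op (p + 1)))
      (hyz : y ≫ φ.hom.app (op p) = z ≫ st Y.obj p)
    obtain ⟨T₁, π₁, hπ₁, x', hx'⟩ := (isStrict_iff φ).1 hs p (p + 1) (by omega) y z hyz
    have hk := (ShortComplex.exact_kernel φ.hom).map ((evaluation ℤᵒᵖ A).obj (op p))
    obtain ⟨T₂, π₂, hπ₂, (k : T₂ ⟶ (kernel φ.hom).obj (op p)),
      (hk' : π₂ ≫ (π₁ ≫ y - x' ≫ st X.obj p) = k ≫ (kernel.ι φ.hom).app (op p))⟩ :=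
      hk.exact_up_to_refinements (π₁ ≫ y - x' ≫ st X.obj p) (by
      change (π₁ ≫ y - x' ≫ st X.obj p) ≫ φ.hom.app (op p) = 0
      simp [Preadditive.sub_comp, Category.assoc, hyz, st_naturality φ.hom p, reassoc_of% hx'])
    refine ⟨T₂, π₂ ≫ π₁, inferInstance, k, π₂ ≫ x', ?_⟩
    change (π₂ ≫ π₁) ≫ y = k ≫ (kernel.ι φ.hom).app (op p) + (π₂ ≫ x') ≫ st X.obj p
    rw [← hk']
    simp
  · intro h
    refine isStrict_of_step _ (fun q T x y hxy => ?_)
    obtain ⟨T₁, π₁, hπ₁, (k : T₁ ⟶ (kernel φ.hom).obj (op q)),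
        (x' : T₁ ⟶ X.obj.obj (op (q + 1))), (hk : π₁ ≫ x =
        k ≫ (kernel.ι φ.hom).app (op q) + x' ≫ st X.obj q)⟩ :=
      (gr_exact_iff _ q).1 (h q) x y hxy
    have := mono_st Y q
    refine ⟨T₁, π₁, hπ₁, x', ?_⟩
    rw [← cancel_mono (st Y.obj q), Category.assoc, Category.assoc, ← st_naturality φ.hom q, ← hxy]
    have hz : (kernel.ι φ.hom).app (op q) ≫ φ.hom.app (op q) = 0 :=
      congr_arg (fun t => NatTrans.app t (op q)) (kernel.condition φ.hom)
    have := hk =≫ φ.hom.app (op q)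
    simpa [Category.assoc, hz] using this

end Groth.Agent.FilD41
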