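import Groth.Agent.FilD41.Objects
import Groth.Agent.PCoh41.Cone
import Mathlib.Algebra.Homology.HomotopyCategory.Pretriangulated
import Mathlib.Algebra.Homology.HomotopyCategory.ShiftSequence

set_option autoImplicit false
set_option linter.unusedSectionVars false
universe v u

open CategoryTheory CategoryTheory.Limits Opposite HomologicalComplex Pretriangulated

namespace Groth.Agent.FilD41

variable {A : Type u} [Category.{v} A] [Abelian A]

attribute [local instance] hasBinaryBiproducts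

/-- zero test in `Fil^f`. -/
lemma isZero_of_id {X : FilD.FilF A} (h : IsZero X.obj) : IsZero X :=
  (IsZero.iff_id_eq_zero _).2 (ObjectProperty.hom_ext _ (h.eq_of_src _ _))

/-- S1083. -/
lemma nullhomotopic (K I : CochainComplex (FilD.FilF A) ℤ) (hK : FilD.IsFilteredAcyclic K) (a : ℤ)
    [I.IsStrictlyGE a] (hI : ∀ n, FilD.IsFilteredInjective (I.X n)) (φ : K ⟶ I) :
    Nonempty (Homotopy φ 0) := by
  obtain ⟨g, hg⟩ := exists_chain_up
    (T := fun n => { h : K.X (n + 1) ⟶ I.X n //
      K.d n (n + 1) ≫ (φ.f (n + 1) - h ≫ I.d n (n + 1)) = 0 })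
    (fun n t t' => φ.f (n + 1) =
      K.d (n + 1) (n + 1 + 1) ≫ t'.1 + t.1 ≫ I.d n (n + 1)) (a - 2)
    (fun n hn => ⟨0, (I.isZero_of_isStrictlyGE a (n + 1) (by omega)).eq_of_tgt _ _⟩)
    (fun n hn => (I.isZero_of_isStrictlyGE a (n + 1) (by omega)).eq_of_tgt _ _)
    (fun n t => by
      have hex : ∀ p, ((ShortComplex.mk (K.d n (n + 1)) (K.d (n + 1) (n + 1 + 1))
          (K.d_comp_d _ _ _)).map (FilD.grF A p)).Exact := fun p =>
        (exactAt_iff' ((FilD.grCx p).obj K) n (n + 1) (n + 1 + 1) (by simp) (by simp)).1 (hK p (n + 1))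
      obtain ⟨h, hh⟩ := exists_desc_extend _ hex (hI (n + 1))
        (φ.f (n + 1) - t.1 ≫ I.d n (n + 1)) t.2
      have hh' : K.d (n + 1) (n + 1 + 1) ≫ h = φ.f (n + 1) - t.1 ≫ I.d n (n + 1) := hh
      refine ⟨⟨h, ?_⟩, ?_⟩
      · rw [Preadditive.comp_sub, ← φ.comm, reassoc_of% hh']
        simp
      · change φ.f (n + 1) = K.d (n + 1) (n + 1 + 1) ≫ h + t.1 ≫ I.d n (n + 1)
        rw [hh', sub_add_cancel])
  let hom : ∀ i j, K.X i ⟶ I.X j := fun i j =>
    if h : j + 1 = i then (K.XIsoOfEq h).inv ≫ (g j).1 else 0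
  have hhom : ∀ j, hom (j + 1) j = (g j).1 := fun j => by simp [hom]
  refine ⟨{ hom := hom, zero := fun i j h => dif_neg h, comm := fun i => ?_ }⟩
  obtain ⟨j, rfl⟩ : ∃ j, i = j + 1 := ⟨i - 1, by omega⟩
  rw [dNext_eq hom (show (ComplexShape.up ℤ).Rel (j + 1) (j + 1 + 1) from rfl),
    prevD_eq hom (show (ComplexShape.up ℤ).Rel j (j + 1) from rfl), hhom, hhom, zero_f, add_zero]
  exact hg j

/-- the cone of a filtered quasi-isomorphism is filtered acyclic. -/
lemma acyclic_mappingCone {K L : CochainComplex (FilD.FilF A) ℤ} (α : K ⟶ L)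
    (hα : FilD.IsFilteredQuasiIso α) :
    FilD.IsFilteredAcyclic (CochainComplex.mappingCone α) := by
  intro p n
  have := hα p
  rw [exactAt_iff_isZero_homology]
  exact (Groth.Agent.PCoh41.nqiso_of_quasiIso ((FilD.grCx p).map α) n n le_rfl).of_iso
    ((homologyFunctor A _ n).mapIso
      (CochainComplex.mappingCone.mapHomologicalComplexIso α (FilD.grF A p)))

lemma acyclic_shift (K : CochainComplex (FilD.FilF A) ℤ) (hK : FilD.IsFilteredAcyclic K) (k : ℤ) :
    FilD.IsFilteredAcyclic (K⟦k⟧) := by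
  intro p n
  rw [exactAt_iff_isZero_homology]
  have h := (exactAt_iff_isZero_homology _ _).1 (hK p (k + n))
  exact (IsZero.of_iso h
    (((homologyFunctor A (ComplexShape.up ℤ) 0).shiftIso k n (k + n) rfl).app
      ((FilD.grCx p).obj K))).of_iso
    ((homologyFunctor A (ComplexShape.up ℤ) n).mapIso
      (((FilD.grF A p).mapHomologicalComplex (ComplexShape.up ℤ)).commShiftIso k |>.app K))

/-- S1084. -/
lemma precomp_bijective (I : CochainComplex (FilD.FilF A) ℤ) (a : ℤ) [I.IsStrictlyGE a]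
    (hI : ∀ n, FilD.IsFilteredInjective (I.X n))
    {K L : CochainComplex (FilD.FilF A) ℤ} (α : K ⟶ L) (hα : FilD.IsFilteredQuasiIso α) :
    Function.Bijective (fun β : (HomotopyCategory.quotient (FilD.FilF A) (ComplexShape.up ℤ)).obj L ⟶
        (HomotopyCategory.quotient (FilD.FilF A) (ComplexShape.up ℤ)).obj I =>
      (HomotopyCategory.quotient (FilD.FilF A) (ComplexShape.up ℤ)).map α ≫ β) := by
  let q := HomotopyCategory.quotient (FilD.FilF A) (ComplexShape.up ℤ)
  have hzero : ∀ (M : CochainComplex (FilD.FilF A) ℤ), FilD.IsFilteredAcyclic M →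
      ∀ γ : q.obj M ⟶ q.obj I, γ = 0 := by
    intro M hM γ
    obtain ⟨γ, rfl⟩ := q.map_surjective γ
    obtain ⟨h⟩ := nullhomotopic M I hM a hI γ
    rw [HomotopyCategory.eq_of_homotopy _ _ h, q.map_zero]
  have hT := HomotopyCategory.mappingCone_triangleh_distinguished α
  have hcone := acyclic_mappingCone α hα
  constructor
  · intro β β' h
    have h0 : q.map α ≫ (β - β') = 0 := by
      rw [Preadditive.comp_sub, sub_eq_zero]; exact h
    obtain ⟨g, hg⟩ := Triangle.yoneda_exact₂ _ hT (β - β') h0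
    rw [← sub_eq_zero, hg]
    have : g = 0 := hzero _ hcone g
    rw [this]
    exact comp_zero
  · intro γ
    have hT' := inv_rot_of_distTriang _ hT
    let e : ((CochainComplex.mappingCone.triangleh α).obj₃)⟦(-1 : ℤ)⟧ ≅
        q.obj ((CochainComplex.mappingCone α)⟦(-1 : ℤ)⟧) :=
      ((q.commShiftIso (-1 : ℤ)).app (CochainComplex.mappingCone α)).symm
    have h0 : (CochainComplex.mappingCone.triangleh α).invRotate.mor₁ ≫ γ = 0 := by
      exact (cancel_epi e.inv).1
        ((hzero _ (acyclic_shift _ hcone (-1)) _).trans comp_zero.symm)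
    obtain ⟨β, hβ⟩ := Triangle.yoneda_exact₂ _ hT' γ h0
    exact ⟨β, hβ.symm⟩

end Groth.Agent.FilD41
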