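import Groth.Agent.FilD41.Resolution

set_option autoImplicit false
set_option linter.unusedSectionVars false
universe v u

open CategoryTheory CategoryTheory.Limits Opposite HomologicalComplex

namespace Groth.Agent.FilD41

variable {A : Type u} [Category.{v} A] [Abelian A]

attribute [local instance] hasBinaryBiproducts

lemma eq_of_homotopy_single {X : FilD.FilF A} {J : CochainComplex (FilD.FilF A) ℤ}
    [J.IsStrictlyGE 0] {f g : (single (FilD.FilF A) (ComplexShape.up ℤ) 0).obj X ⟶ J}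
    (h : Homotopy f g) : f = g := by
  apply from_single_hom_ext
  have := h.comm 0
  rw [dNext_eq _ (show (ComplexShape.up ℤ).Rel 0 1 from rfl),
    prevD_eq _ (show (ComplexShape.up ℤ).Rel (-1) 0 from rfl)] at this
  rw [this, (J.isZero_of_isStrictlyGE 0 (-1) (by omega)).eq_of_tgt (h.hom 0 (-1)) 0,
    (isZero_single_obj_X (ComplexShape.up ℤ) 0 X 1 (by omega)).eq_of_src (h.hom 1 0) 0]
  simp

/-- lifting of maps to resolutions. -/
lemma lift_resolution {X Y : FilD.FilF A} (f : X ⟶ Y)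
    (I : CochainComplex (FilD.FilF A) ℤ)
    (a : (single (FilD.FilF A) (ComplexShape.up ℤ) 0).obj X ⟶ I) (ha : FilD.IsFilteredQuasiIso a)
    (J : CochainComplex (FilD.FilF A) ℤ) [J.IsStrictlyGE 0]
    (hJ : ∀ n, FilD.IsFilteredInjective (J.X n))
    (b : (single (FilD.FilF A) (ComplexShape.up ℤ) 0).obj Y ⟶ J) :
    ∃ φ : I ⟶ J, a ≫ φ = (single (FilD.FilF A) (ComplexShape.up ℤ) 0).map f ≫ b := by
  let q := HomotopyCategory.quotient (FilD.FilF A) (ComplexShape.up ℤ)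
  obtain ⟨β, hβ⟩ := (precomp_bijective J 0 hJ a ha).2
    (q.map ((single (FilD.FilF A) (ComplexShape.up ℤ) 0).map f ≫ b))
  obtain ⟨φ, rfl⟩ := q.map_surjective β
  exact ⟨φ, eq_of_homotopy_single (HomotopyCategory.homotopyOfEq _ _ (by
    rw [Functor.map_comp]; exact hβ))⟩

/-- graded monomorphism from a levelwise short exact sequence. -/
lemma gr_mono_of_levels (S : ShortComplex (FilD.FilF A))
    (hS : ∀ p : ℤ, (S.map ((FilD.IsFinFil A).ι ⋙ (evaluation ℤᵒᵖ A).obj (op p))).ShortExact)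
    (p : ℤ) : Mono ((FilD.grF A p).map S.f) := by
  change Mono ((FilD.gr A p).map S.f.hom)
  rw [gr_mono_iff]
  intro T x z hxz
  have := mono_st S.X₃ p
  have hz0 : z ≫ S.g.hom.app (op (p + 1)) = 0 := by
    rw [← cancel_mono (st S.X₃.obj p), zero_comp, Category.assoc, ← st_naturality S.g.hom p,
      ← reassoc_of% hxz]
    have : S.f.hom.app (op p) ≫ S.g.hom.app (op p) = 0 :=
      congr_arg (fun t : S.X₁ ⟶ S.X₃ => t.hom.app (op p)) S.zero
    rw [this, comp_zero]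
  obtain ⟨T', π, hπ, (x' : T' ⟶ S.X₁.obj.obj (op (p + 1))),
    (hx' : π ≫ z = x' ≫ S.f.hom.app (op (p + 1)))⟩ := (hS (p + 1)).exact.exact_up_to_refinements z hz0
  have : Mono (S.f.hom.app (op p)) := (hS p).mono_f
  refine ⟨T', π, hπ, x', ?_⟩
  rw [← cancel_mono (S.f.hom.app (op p)), Category.assoc, Category.assoc, hxz,
    reassoc_of% hx', st_naturality S.f.hom p]

lemma epi_of_levels {X Y : FilD.FilF A} (g : X ⟶ Y) (h : ∀ p, Epi (g.hom.app (op p))) : Epi g := by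
  have : ∀ p, Epi (g.hom.app p) := fun p => h p.unop
  have : Epi g.hom := NatTrans.epi_of_epi_app g.hom
  exact ⟨fun a b hab => ObjectProperty.hom_ext _ ((cancel_epi g.hom).1
    (congr_arg (fun t => t.hom) hab))⟩

/-- S1091. -/
lemma horseshoe (S : ShortComplex (FilD.FilF A))
    (hS : ∀ p : ℤ, (S.map ((FilD.IsFinFil A).ι ⋙ (evaluation ℤᵒᵖ A).obj (op p))).ShortExact)
    (I : CochainComplex (FilD.FilF A) ℤ) [I.IsStrictlyGE 0]
    (hI : ∀ n, FilD.IsFilteredInjective (I.X n))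
    (a : (single (FilD.FilF A) (ComplexShape.up ℤ) 0).obj S.X₁ ⟶ I)
    (J : CochainComplex (FilD.FilF A) ℤ)
    (c : (single (FilD.FilF A) (ComplexShape.up ℤ) 0).obj S.X₃ ⟶ J) (hc : FilD.IsFilteredQuasiIso c) :
    ∃ (M : CochainComplex (FilD.FilF A) ℤ) (α : I ⟶ M) (β : M ⟶ J)
      (b : (single (FilD.FilF A) (ComplexShape.up ℤ) 0).obj S.X₂ ⟶ M),
      (∀ n, ∃ (r : M.X n ⟶ I.X n) (s : J.X n ⟶ M.X n), α.f n ≫ r = 𝟙 _ ∧ s ≫ β.f n = 𝟙 _ ∧
        α.f n ≫ β.f n = 0 ∧ r ≫ α.f n + β.f n ≫ s = 𝟙 _) ∧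
      a ≫ α = (single (FilD.FilF A) (ComplexShape.up ℤ) 0).map S.f ≫ b ∧
      b ≫ β = (single (FilD.FilF A) (ComplexShape.up ℤ) 0).map S.g ≫ c := by
  let sing := single (FilD.FilF A) (ComplexShape.up ℤ) 0
  let e1 := singleObjXSelf (V := FilD.FilF A) (ComplexShape.up ℤ) 0 S.X₁
  let e2 := singleObjXSelf (V := FilD.FilF A) (ComplexShape.up ℤ) 0 S.X₂
  let e3 := singleObjXSelf (V := FilD.FilF A) (ComplexShape.up ℤ) 0 S.X₃
  obtain ⟨hfm, hfs⟩ := strictMono_of_gr S.f (gr_mono_of_levels S hS)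
  have := hfm
  have hg : Epi S.g := epi_of_levels S.g (fun p => (hS p).epi_g)
  obtain ⟨r₀, hr₀⟩ := extend_mono S.f hfs (hI 0) (e1.inv ≫ a.f 0)
  obtain ⟨ρ, hρ⟩ := exists_desc_extend S (gr_exact_of_levels S hS) (hI 1) (r₀ ≫ I.d 0 1) (by
    rw [reassoc_of% hr₀, a.comm, single_obj_d]
    simp)
  have hρd : ρ ≫ I.d 1 2 = 0 := by
    rw [← cancel_epi S.g, reassoc_of% hρ, I.d_comp_d, comp_zero, comp_zero]
  let θ₀ : sing.obj S.X₃ ⟶ I⟦(1 : ℤ)⟧ :=
    mkHomFromSingle (ρ ≫ (I.XIsoOfEq (show (1 : ℤ) = 0 + 1 by omega)).hom) (fun k hk => by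
      obtain rfl : k = 1 := by change 0 + 1 = k at hk; omega
      simp [hρd, CochainComplex.shiftFunctor_obj_d']
      rfl)
  have : CochainComplex.IsStrictlyGE (I⟦(1 : ℤ)⟧) (-1) := I.isStrictlyGE_shift 0 1 (-1) (by omega)
  obtain ⟨β', hβ'⟩ := (precomp_bijective (I⟦(1 : ℤ)⟧) (-1) (fun n => hI (n + 1)) c hc).2
    ((HomotopyCategory.quotient _ _).map (-θ₀))
  obtain ⟨θ, rfl⟩ := (HomotopyCategory.quotient _ _).map_surjective β'
  obtain ⟨h⟩ : Nonempty (Homotopy (c ≫ θ) (-θ₀)) :=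
    ⟨HomotopyCategory.homotopyOfEq _ _ (by rw [Functor.map_comp]; exact hβ')⟩
  let θ' : ∀ n, J.X n ⟶ I.X (n + 1) := fun n => θ.f n
  let h₀ : S.X₃ ⟶ I.X 0 :=
    e3.inv ≫ h.hom 0 (-1) ≫ (I.XIsoOfEq (show (-1 : ℤ) + 1 = 0 by omega)).hom
  let r := r₀ + S.g ≫ h₀
  let c₀ : S.X₃ ⟶ J.X 0 := e3.inv ≫ c.f 0
  have hkey : c₀ ≫ θ' 0 =
      -(ρ ≫ (I.XIsoOfEq (show (1 : ℤ) = 0 + 1 by omega)).hom) - h₀ ≫ I.d 0 (0 + 1) := by
    let H : (sing.obj S.X₃).X 0 ⟶ I.X (-1 + 1) := h.hom 0 (-1)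
    have hcomm := h.comm 0
    rw [dNext_eq _ (show (ComplexShape.up ℤ).Rel 0 1 from rfl),
      prevD_eq _ (show (ComplexShape.up ℤ).Rel (-1) 0 from rfl),
      (isZero_single_obj_X (ComplexShape.up ℤ) 0 S.X₃ 1 (by omega)).eq_of_src (h.hom 1 0) 0,
      comp_zero, zero_add] at hcomm
    simp only [CochainComplex.shiftFunctor_obj_d', Int.negOnePow_one, Units.neg_smul, one_smul,
      neg_f_apply, comp_f] at hcomm
    have h1 : c.f 0 ≫ θ' 0 = H ≫ (-(I.d (-1 + 1) (0 + 1))) +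
        -(e3.hom ≫ ρ ≫ (I.XIsoOfEq (show (1 : ℤ) = 0 + 1 by omega)).hom) := by
      have hθ₀ : θ₀.f 0 = e3.hom ≫ ρ ≫ (I.XIsoOfEq (show (1 : ℤ) = 0 + 1 by omega)).hom :=
        mkHomFromSingle_f _ _
      rw [← hθ₀]
      exact hcomm
    have hH : h₀ ≫ I.d 0 (0 + 1) = e3.inv ≫ H ≫ I.d (-1 + 1) (0 + 1) := by
      change (e3.inv ≫ H ≫ _) ≫ _ = _
      simp only [Category.assoc, XIsoOfEq_hom_comp_d]
    rw [hH]
    simp only [c₀, Category.assoc, h1, Preadditive.comp_add, Preadditive.comp_neg,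
      Iso.inv_hom_id_assoc]
    abel
  have hθ : ∀ n, θ' n ≫ I.d (n + 1) (n + 1 + 1) = -(J.d n (n + 1) ≫ θ' (n + 1)) := fun n => by
    have := θ.comm n (n + 1)
    simp only [CochainComplex.shiftFunctor_obj_d', Int.negOnePow_one, Units.neg_smul, one_smul] at this
    have h2 : θ' n ≫ (-(I.d (n + 1) (n + 1 + 1))) = J.d n (n + 1) ≫ θ' (n + 1) := this
    rw [← h2, Preadditive.comp_neg, neg_neg]
  let dM : ∀ n, I.X n ⊞ J.X n ⟶ I.X (n + 1) ⊞ J.X (n + 1) := fun n =>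
    biprod.desc (I.d n (n + 1) ≫ biprod.inl) (θ' n ≫ biprod.inl + J.d n (n + 1) ≫ biprod.inr)
  have hdM : ∀ n, dM n ≫ dM (n + 1) = 0 := fun n => by
    apply biprod.hom_ext' <;>
      simp [dM, reassoc_of% (hθ n), Preadditive.comp_add, Preadditive.add_comp]
  let M : CochainComplex (FilD.FilF A) ℤ := CochainComplex.of (fun n => I.X n ⊞ J.X n) dM hdM
  have hMd : ∀ n, M.d n (n + 1) = dM n := fun n => CochainComplex.of_d _ dM n
  let α : I ⟶ M :=
    { f := fun n => biprod.inl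
      comm' := fun i j (hij : i + 1 = j) => by subst hij; rw [hMd]; simp [dM] }
  let β : M ⟶ J :=
    { f := fun n => biprod.snd
      comm' := fun i j (hij : i + 1 = j) => by
        subst hij; rw [hMd]; apply biprod.hom_ext' <;> simp [dM] }
  let b : sing.obj S.X₂ ⟶ M :=
    mkHomFromSingle (biprod.lift r (S.g ≫ c₀) : S.X₂ ⟶ I.X 0 ⊞ J.X 0) (fun k (hk : 0 + 1 = k) => by
      subst hk
      rw [hMd]
      have h1 : c₀ ≫ J.d 0 (0 + 1) = 0 := by
        simp [c₀, c.comm]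
      have h2 : r ≫ I.d 0 (0 + 1) + S.g ≫ c₀ ≫ θ' 0 = 0 := by
        have hρ' : r₀ ≫ I.d 0 (0 + 1) =
            S.g ≫ ρ ≫ (I.XIsoOfEq (show (1 : ℤ) = 0 + 1 by omega)).hom := by
          rw [reassoc_of% hρ]; simp
        rw [hkey]
        simp only [r, Preadditive.add_comp, hρ', Category.assoc, Preadditive.comp_sub,
          Preadditive.comp_neg]
        abel
      apply biprod.hom_ext
      · simpa [dM, biprod.lift_desc, Preadditive.add_comp] using h2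
      · change ((biprod.lift r (S.g ≫ c₀) : S.X₂ ⟶ I.X 0 ⊞ J.X 0) ≫ dM 0) ≫ biprod.snd = 0 ≫ biprod.snd
        simp only [dM, biprod.lift_desc, Preadditive.add_comp, Category.assoc, biprod.inl_snd,
          biprod.inr_snd, comp_zero, zero_add, zero_comp, Category.comp_id, h1])
  have hb : b.f 0 = e2.hom ≫ (biprod.lift r (S.g ≫ c₀) : S.X₂ ⟶ I.X 0 ⊞ J.X 0) :=
    mkHomFromSingle_f _ _
  have hf0 : (sing.map S.f).f 0 = e1.hom ≫ S.f ≫ e2.inv := single_map_f_self _ _ _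
  have hg0 : (sing.map S.g).f 0 = e2.hom ≫ S.g ≫ e3.inv := single_map_f_self _ _ _
  refine ⟨M, α, β, b, fun n => ⟨biprod.fst, biprod.inr, ?_, ?_, ?_, biprod.total⟩, ?_, ?_⟩
  · exact biprod.inl_fst
  · exact biprod.inr_snd
  · exact biprod.inl_snd
  · apply from_single_hom_ext
    change a.f 0 ≫ (biprod.inl : I.X 0 ⟶ I.X 0 ⊞ J.X 0) = (sing.map S.f).f 0 ≫ b.f 0
    have hfg : S.f ≫ S.g = 0 := S.zero
    have key : S.f ≫ (biprod.lift r (S.g ≫ c₀) : S.X₂ ⟶ I.X 0 ⊞ J.X 0) =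
        (e1.inv ≫ a.f 0) ≫ biprod.inl := by
      apply biprod.hom_ext <;> simp [r, hr₀, reassoc_of% hfg]
    rw [hf0, hb]
    refine Eq.trans ?_ (by simp only [Category.assoc, Iso.inv_hom_id_assoc] :
      e1.hom ≫ S.f ≫ (biprod.lift r (S.g ≫ c₀) : S.X₂ ⟶ I.X 0 ⊞ J.X 0) = _)
    rw [key, Category.assoc, Iso.hom_inv_id_assoc]
  · apply from_single_hom_ext
    change b.f 0 ≫ (biprod.snd : I.X 0 ⊞ J.X 0 ⟶ J.X 0) = (sing.map S.g).f 0 ≫ c.f 0
    rw [hb, hg0]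
    change (e2.hom ≫ biprod.lift r (S.g ≫ c₀)) ≫ (biprod.snd : I.X 0 ⊞ J.X 0 ⟶ J.X 0) = _
    simp [c₀]

end Groth.Agent.FilD41
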