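import Groth.Agent.FilD41.Basic
import Mathlib.CategoryTheory.Preadditive.Injective.Basic
import Mathlib.CategoryTheory.Limits.Shapes.FiniteProducts
import Mathlib.CategoryTheory.Limits.FullSubcategory

set_option autoImplicit false
set_option linter.unusedSectionVars false
universe v u

open CategoryTheory CategoryTheory.Limits Opposite
open scoped ZeroObject

namespace Groth.Agent.FilD41

variable {A : Type u} [Category.{v} A] [Abelian A]

lemma finFil_kernel {X Y : FilD.FilF A} (φ : X ⟶ Y) : FilD.IsFinFil A (kernel φ.hom) := by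
  have hm : ∀ p, Mono ((kernel.ι φ.hom).app p) := fun p => inferInstance
  refine ⟨fun p q f => ?_, ?_, ?_⟩
  · have := X.property.1 f
    have : Mono ((kernel φ.hom).map f ≫ (kernel.ι φ.hom).app q) := by
      rw [(kernel.ι φ.hom).naturality f]; infer_instance
    exact mono_of_mono _ ((kernel.ι φ.hom).app q)
  · obtain ⟨b, hb⟩ := exists_high X
    exact ⟨b, fun p hp => IsZero.of_mono ((kernel.ι φ.hom).app (op p)) (hb p hp)⟩
  · obtain ⟨a, ha⟩ := X.property.2.2
    refine ⟨a, fun p q f hp => ?_⟩
    have hX : IsIso (X.obj.map f) := ha f hp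
    have hY := Y.property.1 f
    have : Mono ((kernel φ.hom).map f) := by
      have : Mono ((kernel φ.hom).map f ≫ (kernel.ι φ.hom).app q) := by
        rw [(kernel.ι φ.hom).naturality f]; infer_instance
      exact mono_of_mono _ ((kernel.ι φ.hom).app q)
    have : Epi ((kernel φ.hom).map f) := by
      rw [epi_iff_surjective_up_to_refinements]
      intro T y
      let x := y ≫ (kernel.ι φ.hom).app q ≫ inv (X.obj.map f)
      have hx : x ≫ φ.hom.app p = 0 := by
        have hz : (kernel.ι φ.hom).app q ≫ φ.hom.app q = 0 :=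
          congr_arg (fun t => NatTrans.app t q) (kernel.condition φ.hom)
        rw [← cancel_mono (Y.obj.map f), zero_comp]
        simp only [x, Category.assoc]
        rw [← φ.hom.naturality, IsIso.inv_hom_id_assoc, hz, comp_zero]
      obtain ⟨T', π, hπ, (k : T' ⟶ (kernel φ.hom).obj p), hk⟩ := ((ShortComplex.exact_kernel φ.hom).map
        ((evaluation ℤᵒᵖ A).obj p)).exact_up_to_refinements x hx
      refine ⟨T', π, hπ, k, ?_⟩
      rw [← cancel_mono ((kernel.ι φ.hom).app q), Category.assoc, Category.assoc,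
        (kernel.ι φ.hom).naturality f]
      have hk' : π ≫ x = k ≫ (kernel.ι φ.hom).app p := hk
      rw [← reassoc_of% hk']
      simp [x]
    exact isIso_of_mono_of_epi _

lemma mono_app {X Y : FilD.FilF A} (φ : X ⟶ Y) [Mono φ] (p : ℤ) :
    Mono (φ.hom.app (op p)) := by
  have : Mono φ.hom := Preadditive.mono_of_cancel_zero _ (fun {P} g hg => by
    let K : FilD.FilF A := ⟨kernel φ.hom, finFil_kernel φ⟩
    let k : K ⟶ X := ⟨kernel.ι φ.hom⟩
    have hk : k = 0 := by
      rw [← cancel_mono φ, zero_comp]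
      exact ObjectProperty.hom_ext _ (kernel.condition φ.hom)
    have hι : kernel.ι φ.hom = 0 := congr_arg (fun t : K ⟶ X => t.hom) hk
    rw [← kernel.lift_ι φ.hom g hg, hι, comp_zero])
  infer_instance

lemma mono_of_app {X Y : FilD.FilF A} (φ : X ⟶ Y) (h : ∀ p, Mono (φ.hom.app (op p))) : Mono φ := by
  have : ∀ p, Mono (φ.hom.app p) := fun p => h p.unop
  have : Mono φ.hom := NatTrans.mono_of_mono_app φ.hom
  exact ⟨fun g g' hg => ObjectProperty.hom_ext _ ((cancel_mono φ.hom).1
    (congr_arg (fun t => t.hom) hg))⟩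

/-- a map with injective graded maps is a strict monomorphism. -/
lemma strictMono_of_gr {X Y : FilD.FilF A} (φ : X ⟶ Y)
    (h : ∀ p, Mono ((FilD.grF A p).map φ)) : Mono φ ∧ FilD.IsStrict φ := by
  have h' : ∀ p, Mono ((FilD.gr A p).map φ.hom) := h
  obtain ⟨b, hb⟩ := exists_high X
  have hinj : ∀ (n : ℕ) (p : ℤ), b ≤ p + n → Mono (φ.hom.app (op p)) := by
    intro n
    induction n with
    | zero => exact fun p hp => ⟨fun g g' _ => (hb p (by omega)).eq_of_tgt _ _⟩
    | succ n ih =>
      intro p hp
      have := ih (p + 1) (by omega)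
      have := mono_st Y p
      refine Preadditive.mono_of_cancel_zero _ (fun {T} x hx => ?_)
      obtain ⟨T', π, hπ, x', hx'⟩ :=
        (gr_mono_iff φ.hom p).1 (h' p) x 0 (hx.trans zero_comp.symm)
      have hx0 : x' = 0 := by
        rw [← cancel_mono (φ.hom.app (op (p + 1))), ← cancel_mono (st Y.obj p), Category.assoc,
          ← st_naturality φ.hom p, ← reassoc_of% hx', hx]
        simp
      rw [← cancel_epi π, hx', hx0]
      simp
  have hm : ∀ p, Mono (φ.hom.app (op p)) := fun p => hinj (b - p).toNat p (by omega)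
  refine ⟨mono_of_app φ hm, isStrict_of_step φ (fun q T x y hxy => ?_)⟩
  obtain ⟨T', π, hπ, x', hx'⟩ := (gr_mono_iff φ.hom q).1 (h' q) x y hxy
  have := mono_st Y q
  refine ⟨T', π, hπ, x', ?_⟩
  rw [← cancel_mono (st Y.obj q), Category.assoc, Category.assoc, ← st_naturality φ.hom q,
    ← reassoc_of% hx', hxy]

/-- extension to a map killing a kernel. -/
lemma exists_extension_of_kernel {S Y I : A} [Injective I] (w : S ⟶ Y) (v : S ⟶ I)
    (h : kernel.ι w ≫ v = 0) : ∃ g : Y ⟶ I, w ≫ g = v := by
  let v' : Abelian.coimage w ⟶ I := cokernel.desc _ v h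
  refine ⟨Injective.factorThru v' (Abelian.factorThruCoimage w), ?_⟩
  conv_lhs => arg 1; rw [← Abelian.coimage.fac w]
  rw [Category.assoc, Injective.comp_factorThru]
  exact cokernel.π_desc _ _ _

/-- the levels of a filtered injective object are injective. -/
lemma injective_lvl {I : FilD.FilF A} (hI : FilD.IsFilteredInjective I) (p : ℤ) :
    Injective (I.obj.obj (op p)) := by
  obtain ⟨b, hb⟩ := exists_high I
  suffices ∀ (n : ℕ) (p : ℤ), b ≤ p + n → Injective (I.obj.obj (op p)) by
    exact this (b - p).toNat p (by omega)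
  intro n
  induction n with
  | zero => exact fun p hp => (hb p (by omega)).injective
  | succ n ih =>
    intro p hp
    let S := ShortComplex.mk (st I.obj p) (grπ I.obj p) (st_grπ _ _)
    have : Mono S.f := mono_st I p
    have : Epi S.g := inferInstanceAs (Epi (grπ I.obj p))
    have hS : S.ShortExact := ShortComplex.ShortExact.mk
      (ShortComplex.exact_cokernel (I.obj.map (FilD.stepHom p)))
    have : Injective S.X₁ := ih (p + 1) (by omega)
    have : Injective S.X₃ := hI p
    exact Injective.of_iso hS.splittingOfInjective.isoBinaryBiproduct.symm inferInstance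

/-- maps into filtered injectives extend along strict maps. -/
lemma extend {X Y I : FilD.FilF A} (g : X ⟶ Y) (hg : FilD.IsStrict g) (ψ : X ⟶ I)
    (hI : FilD.IsFilteredInjective I)
    (hker : ∀ (p : ℤ) ⦃T : A⦄ (x : T ⟶ X.obj.obj (op p)),
      x ≫ g.hom.app (op p) = 0 → x ≫ ψ.hom.app (op p) = 0) :
    ∃ h : Y ⟶ I, g ≫ h = ψ := by
  obtain ⟨b, hb⟩ := exists_high I
  obtain ⟨h, hh⟩ := exists_chain_down
    (T := fun p => { h : Y.obj.obj (op p) ⟶ I.obj.obj (op p) //
      g.hom.app (op p) ≫ h = ψ.hom.app (op p) })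
    (fun p t t' => st Y.obj p ≫ t'.1 = t.1 ≫ st I.obj p) b
    (fun p hp => ⟨0, (hb p hp).eq_of_tgt _ _⟩)
    (fun p hp => (hb p hp).eq_of_tgt _ _)
    (fun p t => by
      have := injective_lvl hI p
      let w : X.obj.obj (op p) ⊞ Y.obj.obj (op (p + 1)) ⟶ Y.obj.obj (op p) :=
        biprod.desc (g.hom.app (op p)) (st Y.obj p)
      let v : X.obj.obj (op p) ⊞ Y.obj.obj (op (p + 1)) ⟶ I.obj.obj (op p) :=
        biprod.desc (ψ.hom.app (op p)) (t.1 ≫ st I.obj p)
      have hk : kernel.ι w ≫ v = 0 := by
        set x := kernel.ι w ≫ biprod.fst with hx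
        set z := kernel.ι w ≫ biprod.snd with hz
        have hxz : x ≫ g.hom.app (op p) = (-z) ≫ st Y.obj p := by
          have h1 : kernel.ι w ≫ w = 0 := kernel.condition w
          simp only [w, biprod.desc_eq, Preadditive.comp_add] at h1
          simp only [hx, hz, Preadditive.neg_comp, Category.assoc]
          exact eq_neg_of_add_eq_zero_left h1
        obtain ⟨T', π, hπ, x', hx'⟩ := (isStrict_iff g).1 hg p (p + 1) (by omega) x (-z) hxz
        have h2 := hker p (π ≫ x - x' ≫ st X.obj p) (by
          simp only [Preadditive.sub_comp, Category.assoc, hxz, st_naturality g.hom p,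
            ← reassoc_of% hx', sub_self])
        rw [← cancel_epi π, comp_zero]
        simp only [v, biprod.desc_eq, Preadditive.comp_add, ← Category.assoc]
        simp only [Category.assoc] at h2 ⊢
        simp only [← Category.assoc (kernel.ι w), ← hx, ← hz]
        simp only [Preadditive.sub_comp, Category.assoc, st_naturality ψ.hom p, ← t.2,
          ← reassoc_of% hx', Preadditive.neg_comp, Preadditive.comp_neg, sub_neg_eq_add] at h2
        simpa [Category.assoc] using h2
      obtain ⟨h', hh'⟩ := exists_extension_of_kernel w v hk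
      have h1 := biprod.inl ≫= hh'
      have h2 := biprod.inr ≫= hh'
      simp only [w, v, ← Category.assoc, biprod.inl_desc, biprod.inr_desc] at h1 h2
      exact ⟨⟨h', h1⟩, h2⟩)
  refine ⟨⟨mkHom (fun p => (h p).1) hh⟩, ObjectProperty.hom_ext _ (NatTrans.ext (funext ?_))⟩
  rintro ⟨p⟩
  exact (h p).2

/-- S6605. -/
lemma extend_mono {X Y I : FilD.FilF A} (u : X ⟶ Y) [Mono u] (hu : FilD.IsStrict u)
    (hI : FilD.IsFilteredInjective I) (f : X ⟶ I) : ∃ g : Y ⟶ I, u ≫ g = f :=
  extend u hu f hI (fun p T x hx => by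
    have := mono_app u p
    rw [zero_of_comp_mono _ hx, zero_comp])

/-- descend along a graded exact sequence and extend into a filtered injective. -/
lemma exists_desc_extend (S : ShortComplex (FilD.FilF A))
    (hS : ∀ p : ℤ, (S.map (FilD.grF A p)).Exact) {I : FilD.FilF A}
    (hI : FilD.IsFilteredInjective I) (ψ : S.X₂ ⟶ I) (hψ : S.f ≫ ψ = 0) :
    ∃ h : S.X₃ ⟶ I, S.g ≫ h = ψ := by
  obtain ⟨hex, -, hg⟩ := exact_and_strict_of_gr S hS
  refine extend S.g hg ψ hI (fun p T x hx => ?_)
  obtain ⟨T', π, hπ, (x' : T' ⟶ S.X₁.obj.obj (op p)), (hx' : π ≫ x = x' ≫ S.f.hom.app (op p))⟩ :=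
    (hex p).exact_up_to_refinements x hx
  rw [← cancel_epi π, reassoc_of% hx', comp_zero]
  have h0 : S.f.hom.app (op p) ≫ ψ.hom.app (op p) = 0 :=
    congr_arg (fun t : S.X₁ ⟶ I => t.hom.app (op p)) hψ
  simp [h0]

/-- `E` in filtration degrees `≤ k`, zero above. -/
noncomputable def deltaFun (k : ℤ) (E : A) : ℤᵒᵖ ⥤ A where
  obj p := ∐ fun _ : PLift (p.unop ≤ k) => E
  map {p q} f := Sigma.desc fun h =>
    Sigma.ι (fun _ : PLift (q.unop ≤ k) => E) ⟨(leOfHom f.unop).trans h.down⟩
  map_id p := by ext h; simp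
  map_comp f g := by ext h; simp

/-- the coproduct over a true proposition. -/
noncomputable def deltaIso (k p : ℤ) (E : A) (h : p ≤ k) :
    (deltaFun k E).obj (op p) ≅ E where
  hom := Sigma.desc fun _ => 𝟙 E
  inv := Sigma.ι (fun _ : PLift ((op p).unop ≤ k) => E) ⟨h⟩
  hom_inv_id := Sigma.hom_ext _ _ fun h' => by
    obtain rfl : h' = ⟨h⟩ := Subsingleton.elim _ _
    simp [deltaFun]
  inv_hom_id := by simp [deltaFun]

lemma isZero_delta (k p : ℤ) (E : A) (h : k < p) : IsZero ((deltaFun k E).obj (op p)) :=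
  (IsZero.iff_id_eq_zero _).2 (Sigma.hom_ext _ _ fun h' => absurd h'.down (by dsimp; omega))

lemma deltaFun_map_ι (k : ℤ) (E : A) {p q : ℤ} (f : op p ⟶ op q) (hp : p ≤ k) (hq : q ≤ k) :
    (deltaIso k p E hp).inv ≫ (deltaFun k E).map f = (deltaIso k q E hq).inv := by
  simp [deltaFun, deltaIso]

lemma finFil_delta (k : ℤ) (E : A) : FilD.IsFinFil A (deltaFun k E) := by
  have hiso : ∀ ⦃p q : ℤ⦄ (f : op p ⟶ op q), p ≤ k → IsIso ((deltaFun k E).map f) := by
    intro p q f hp
    have hq : q ≤ k := (leOfHom f.unop).trans hp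
    have : (deltaFun k E).map f = (deltaIso k p E hp).hom ≫ (deltaIso k q E hq).inv := by
      rw [← deltaFun_map_ι k E f hp hq, Iso.hom_inv_id_assoc]
    rw [this]; infer_instance
  refine ⟨?_, ⟨k + 1, fun p hp => isZero_delta k p E (by omega)⟩, ⟨k, ?_⟩⟩
  · rintro ⟨p⟩ ⟨q⟩ f
    by_cases hp : p ≤ k
    · have := hiso f hp; infer_instance
    · exact ⟨fun g g' _ => (isZero_delta k p E (by omega)).eq_of_tgt _ _⟩
  · rintro ⟨p⟩ ⟨q⟩ f hp
    exact hiso f hp

/-- `δ_k E` as a filtered object. -/
noncomputable abbrev delta (k : ℤ) (E : A) : FilD.FilF A := ⟨deltaFun k E, finFil_delta k E⟩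

lemma injective_delta (k : ℤ) (E : A) [Injective E] : FilD.IsFilteredInjective (delta k E) := by
  intro p
  change Injective ((FilD.gr A p).obj (deltaFun k E))
  rcases lt_trichotomy p k with h | rfl | h
  · have : IsIso (st (deltaFun k E) p) := by
      have hf := deltaFun_map_ι k E (FilD.stepHom p) (show p + 1 ≤ k by omega) h.le
      have e : st (deltaFun k E) p =
          (deltaIso k (p + 1) E (by omega)).hom ≫ (deltaIso k p E h.le).inv := by
        rw [← hf, Iso.hom_inv_id_assoc]
      rw [e]; infer_instance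
    exact (isZero_cokernel_of_epi ((deltaFun k E).map (FilD.stepHom p))).injective
  · have h0 : (deltaFun p E).map (FilD.stepHom p) = 0 :=
      (isZero_delta p (p + 1) E (by omega)).eq_of_src _ _
    exact Injective.of_iso ((deltaIso p p E le_rfl).symm ≪≫
      (cokernelIsoOfEq h0 ≪≫ cokernelZeroIsoTarget).symm) inferInstance
  · exact (IsZero.of_epi (grπ (deltaFun k E) p) (isZero_delta k p E h)).injective

lemma finFil_biprod {F G : ℤᵒᵖ ⥤ A} (hF : FilD.IsFinFil A F) (hG : FilD.IsFinFil A G) :
    FilD.IsFinFil A (F ⊞ G) := by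
  let e : ∀ p, (F ⊞ G).obj p ≅ F.obj p ⊞ G.obj p := fun p =>
    { hom := biprod.lift ((biprod.fst : F ⊞ G ⟶ F).app p) ((biprod.snd : F ⊞ G ⟶ G).app p)
      inv := biprod.desc ((biprod.inl : F ⟶ F ⊞ G).app p) ((biprod.inr : G ⟶ F ⊞ G).app p)
      hom_inv_id := by
        rw [biprod.lift_desc, ← NatTrans.comp_app, ← NatTrans.comp_app, ← NatTrans.app_add,
          biprod.total, NatTrans.id_app]
      inv_hom_id := by
        apply biprod.hom_ext' <;> apply biprod.hom_ext <;>
          simp [← NatTrans.comp_app] }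
  have he : ∀ ⦃p q⦄ (f : p ⟶ q),
      (F ⊞ G).map f = (e p).hom ≫ biprod.map (F.map f) (G.map f) ≫ (e q).inv := by
    intro p q f
    rw [← Category.assoc, Iso.eq_comp_inv]
    apply biprod.hom_ext <;> simp [e]
  refine ⟨fun p q f => ?_, ?_, ?_⟩
  · have := hF.1 f; have := hG.1 f
    have : Mono (biprod.map (F.map f) (G.map f)) := ⟨fun g g' h => by
      apply biprod.hom_ext
      · exact (cancel_mono (F.map f)).1 (by simpa using h =≫ biprod.fst)
      · exact (cancel_mono (G.map f)).1 (by simpa using h =≫ biprod.snd)⟩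
    have := (e p).isIso_hom
    have := (e q).isIso_inv
    rw [he]; exact mono_comp _ _
  · obtain ⟨b, hb⟩ := hF.2.1
    obtain ⟨c, hc⟩ := hG.2.1
    exact ⟨max b c, fun p hp =>
      ((biprod_isZero_iff _ _).2 ⟨hb p (by omega), hc p (by omega)⟩).of_iso (e _)⟩
  · obtain ⟨a, ha⟩ := hF.2.2
    obtain ⟨c, hc⟩ := hG.2.2
    refine ⟨min a c, fun p q f hp => ?_⟩
    have := ha f (hp.trans (min_le_left _ _))
    have := hc f (hp.trans (min_le_right _ _))
    have hm : IsIso (biprod.map (F.map f) (G.map f)) :=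
      (biprod.mapIso (asIso (F.map f)) (asIso (G.map f))).isIso_hom
    have := (e p).isIso_hom
    have := (e q).isIso_inv
    rw [he]
    exact IsIso.comp_isIso' inferInstance (IsIso.comp_isIso' hm inferInstance)

/-- biproducts of finite filtered objects exist. -/
lemma hasBinaryBiproducts : HasBinaryBiproducts (FilD.FilF A) where
  has_binary_biproduct X Y := by
    let B : FilD.FilF A := ⟨X.obj ⊞ Y.obj, finFil_biprod X.property Y.property⟩
    exact HasBinaryBiproduct.mk
      { bicone :=
          { pt := B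
            fst := ⟨biprod.fst⟩
            snd := ⟨biprod.snd⟩
            inl := ⟨biprod.inl⟩
            inr := ⟨biprod.inr⟩
            inl_fst := ObjectProperty.hom_ext _ biprod.inl_fst
            inl_snd := ObjectProperty.hom_ext _ biprod.inl_snd
            inr_fst := ObjectProperty.hom_ext _ biprod.inr_fst
            inr_snd := ObjectProperty.hom_ext _ biprod.inr_snd }
        isBilimit := isBinaryBilimitOfTotal _ (ObjectProperty.hom_ext _ biprod.total) }

attribute [local instance] hasBinaryBiproducts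

lemma injective_biprod {I J : FilD.FilF A} (hI : FilD.IsFilteredInjective I)
    (hJ : FilD.IsFilteredInjective J) : FilD.IsFilteredInjective (I ⊞ J) := fun p => by
  have := hI p
  have := hJ p
  have : PreservesBinaryBiproducts (FilD.grF A p) :=
    preservesBinaryBiproducts_of_preservesBiproducts _
  exact Injective.of_iso ((FilD.grF A p).mapBiprod I J).symm inferInstance

lemma injective_zero {Z : FilD.FilF A} (hZ : IsZero Z) : FilD.IsFilteredInjective Z := fun p =>
  ((FilD.grF A p).map_isZero hZ).injective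

/-- S1081, in graded form. -/
lemma exists_embedding [EnoughInjectives A] (X : FilD.FilF A) :
    ∃ (I : FilD.FilF A) (u : X ⟶ I), FilD.IsFilteredInjective I ∧
      ∀ p, Mono ((FilD.grF A p).map u) := by
  obtain ⟨a, ha⟩ := exists_low X
  obtain ⟨b, hb⟩ := exists_high X
  have htriv : ∀ k, k ≤ a ∨ b ≤ k → IsZero ((FilD.grF A k).obj X) := fun k hk => by
    rcases hk with hk | hk
    · have := ha k hk
      exact isZero_cokernel_of_epi (X.obj.map (FilD.stepHom k))
    · exact IsZero.of_epi (grπ X.obj k) (hb k hk)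
  have hone : ∀ k, ∃ (E : A) (_ : Injective E) (u : X ⟶ delta k E),
      Mono ((FilD.grF A k).map u) := by
    intro k
    let m := Injective.ι ((FilD.gr A k).obj X.obj)
    let top : ∀ p, k ≤ p → (X.obj.obj (op p) ⟶ (deltaFun k (Injective.under _)).obj (op p)) :=
      fun p hp => if h : p = k then
        eqToHom (by rw [h]) ≫ grπ X.obj k ≫ m ≫ (deltaIso k p _ (le_of_eq h)).inv else 0
    obtain ⟨g, hg⟩ := exists_chain_down
      (T := fun p => { g : X.obj.obj (op p) ⟶ (deltaFun k (Injective.under _)).obj (op p) //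
        ∀ h : k ≤ p, g = top p h })
      (fun p t t' => st X.obj p ≫ t'.1 = t.1 ≫ st _ p) k
      (fun p hp => ⟨top p hp, fun _ => rfl⟩)
      (fun p hp => by
        rcases eq_or_lt_of_le hp with rfl | hp'
        · simp only [top, dif_pos]
          rw [dif_neg (by omega), zero_comp]
          simp
        · exact (isZero_delta k p _ hp').eq_of_tgt _ _)
      (fun p t => by
        by_cases hp : k ≤ p
        · refine ⟨⟨top p hp, fun _ => rfl⟩, ?_⟩
          rcases eq_or_lt_of_le hp with rfl | hp'
          · rw [t.2 (by omega)]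
            simp only [top, dif_pos]
            rw [dif_neg (by omega), zero_comp]
            simp
          · exact (isZero_delta k p _ hp').eq_of_tgt _ _
        · have := mono_st X p
          have : Injective ((deltaFun k (Injective.under ((FilD.gr A k).obj X.obj))).obj (op p)) :=
            Injective.of_iso (deltaIso k p _ (by omega)).symm inferInstance
          exact ⟨⟨Injective.factorThru (t.1 ≫ st _ p) (st X.obj p), fun h => absurd h hp⟩,
            Injective.comp_factorThru _ _⟩)
    refine ⟨_, inferInstance, ⟨mkHom (fun p => (g p).1) hg⟩, ?_⟩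
    change Mono ((FilD.gr A k).map (mkHom (fun p => (g p).1) hg))
    have h0 : (deltaFun k (Injective.under ((FilD.gr A k).obj X.obj))).map (FilD.stepHom k) = 0 :=
      (isZero_delta k (k + 1) _ (by omega)).eq_of_src _ _
    have : IsIso (grπ (deltaFun k (Injective.under ((FilD.gr A k).obj X.obj))) k) := by
      have : Mono (grπ (deltaFun k (Injective.under ((FilD.gr A k).obj X.obj))) k) :=
        (ShortComplex.exact_cokernel
          ((deltaFun k (Injective.under ((FilD.gr A k).obj X.obj))).map (FilD.stepHom k))).mono_g h0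
      exact isIso_of_mono_of_epi _
    have key : (FilD.gr A k).map (mkHom (fun p => (g p).1) hg) =
        m ≫ (deltaIso k k _ le_rfl).inv ≫ grπ _ k := by
      rw [← cancel_epi (grπ X.obj k), grπ_naturality, mkHom_app, (g k).2 le_rfl]
      simp [top]
    rw [key]
    infer_instance
  suffices ∀ n : ℕ, ∃ (I : FilD.FilF A) (u : X ⟶ I), FilD.IsFilteredInjective I ∧
      ∀ p, (p ≤ a + n ∨ b ≤ p) → Mono ((FilD.grF A p).map u) by
    obtain ⟨I, u, hI, hu⟩ := this (b - a).toNat
    exact ⟨I, u, hI, fun p => hu p (by omega)⟩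
  intro n
  induction n with
  | zero =>
    obtain ⟨Z, hZ, hZp⟩ := ObjectProperty.ContainsZero.exists_zero (P := FilD.IsFinFil A)
    exact ⟨⟨Z, hZp⟩, 0,
      injective_zero ((IsZero.iff_id_eq_zero _).2 (ObjectProperty.hom_ext _
        (hZ.eq_of_src _ _))),
      fun p hp => ⟨fun g g' _ => (htriv p (by simpa using hp)).eq_of_tgt _ _⟩⟩
  | succ n ih =>
    obtain ⟨I, u, hI, hu⟩ := ih
    obtain ⟨E, hE, v, hv⟩ := hone (a + (n + 1 : ℕ))
    refine ⟨I ⊞ delta _ E, biprod.lift u v, injective_biprod hI (injective_delta _ E), fun p hp => ?_⟩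
    by_cases hp' : p = a + (n + 1 : ℕ)
    · subst hp'
      have : Mono ((FilD.grF A (a + ((n + 1 : ℕ) : ℤ))).map (biprod.lift u v) ≫ (FilD.grF A (a + ((n + 1 : ℕ) : ℤ))).map biprod.snd) := by
        rw [← Functor.map_comp, biprod.lift_snd]; exact hv
      exact mono_of_mono _ ((FilD.grF A (a + ((n + 1 : ℕ) : ℤ))).map biprod.snd)
    · have : Mono ((FilD.grF A p).map (biprod.lift u v) ≫ (FilD.grF A p).map biprod.fst) := by
        rw [← Functor.map_comp, biprod.lift_fst]; exact hu p (by push_cast at hp hp' ⊢; omega)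
      exact mono_of_mono _ ((FilD.grF A p).map biprod.fst)

end Groth.Agent.FilD41
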