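import Groth.Agent.FilD41.Objects
import Mathlib.Algebra.Homology.HomologicalComplexAbelian
import Mathlib.Algebra.Homology.HomologySequenceLemmas
import Mathlib.Algebra.Homology.Embedding.CochainComplex
import Mathlib.Algebra.Homology.QuasiIso
import Mathlib.Algebra.Homology.ShortComplex.PreservesHomology

set_option autoImplicit false
set_option linter.unusedSectionVars false
universe v u

open CategoryTheory CategoryTheory.Limits Opposite HomologicalComplex

namespace Groth.Agent.FilD41

variable {A : Type u} [Category.{v} A] [Abelian A]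

lemma finFil_of_iso {F G : ℤᵒᵖ ⥤ A} (e : F ≅ G) (h : FilD.IsFinFil A F) : FilD.IsFinFil A G := by
  have hG : ∀ ⦃p q⦄ (f : p ⟶ q), G.map f = e.inv.app p ≫ F.map f ≫ e.hom.app q := by
    intro p q f; simp
  refine ⟨fun p q f => ?_, ?_, ?_⟩
  · have := h.1 f
    rw [hG]; infer_instance
  · obtain ⟨b, hb⟩ := h.2.1
    exact ⟨b, fun p hp => (hb p hp).of_iso (e.app _).symm⟩
  · obtain ⟨a, ha⟩ := h.2.2
    refine ⟨a, fun p q f hp => ?_⟩
    have := ha f hp
    rw [hG]; infer_instance

/-- cokernels of strict maps are finite filtered. -/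
lemma finFil_cokernel {X Y : FilD.FilF A} (f : X ⟶ Y) (hf : FilD.IsStrict f) :
    FilD.IsFinFil A (cokernel f.hom) := by
  have hmono : ∀ ⦃p q⦄ (g : p ⟶ q), Mono ((cokernel f.hom).map g) := by
    rintro ⟨q⟩ ⟨p⟩ g
    have hpq : p ≤ q := leOfHom g.unop
    refine Preadditive.mono_of_cancel_zero _ (fun {T} z hz => ?_)
    obtain ⟨T₁, π₁, hπ₁, y, hy⟩ :=
      surjective_up_to_refinements_of_epi ((cokernel.π f.hom).app (op q)) z
    have h0 : (y ≫ Y.obj.map g) ≫ (cokernel.π f.hom).app (op p) = 0 := by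
      rw [Category.assoc, (cokernel.π f.hom).naturality g, ← reassoc_of% hy, hz, comp_zero]
    obtain ⟨T₂, π₂, hπ₂, (x : T₂ ⟶ X.obj.obj (op p)),
      (hx : π₂ ≫ y ≫ Y.obj.map g = x ≫ f.hom.app (op p))⟩ :=
      ((ShortComplex.exact_cokernel f.hom).map
        ((evaluation ℤᵒᵖ A).obj (op p))).exact_up_to_refinements _ h0
    obtain ⟨T₃, π₃, hπ₃, x', hx'⟩ := (isStrict_iff f).1 hf p q hpq x (π₂ ≫ y)
      (by rw [Category.assoc, ← hx]; rfl)
    have hz0 : (f.hom.app (op q)) ≫ (cokernel.π f.hom).app (op q) = 0 :=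
      congr_arg (fun t => NatTrans.app t (op q)) (cokernel.condition f.hom)
    rw [← cancel_epi (π₃ ≫ π₂ ≫ π₁), comp_zero]
    simp only [Category.assoc, hy, reassoc_of% hx', hz0, comp_zero]
  refine ⟨hmono, ?_, ?_⟩
  · obtain ⟨b, hb⟩ := exists_high Y
    exact ⟨b, fun p hp => IsZero.of_epi ((cokernel.π f.hom).app (op p)) (hb p hp)⟩
  · obtain ⟨a, ha⟩ := Y.property.2.2
    refine ⟨a, fun p q g hp => ?_⟩
    have := ha g hp
    have := hmono g
    have : Epi ((cokernel f.hom).map g) := by
      have : Epi ((cokernel.π f.hom).app p ≫ (cokernel f.hom).map g) := by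
        rw [← (cokernel.π f.hom).naturality g]; infer_instance
      exact epi_of_epi ((cokernel.π f.hom).app p) _
    exact isIso_of_mono_of_epi _

/-- the `p`-th filtration step, as a functor. -/
noncomputable abbrev lvl (A : Type u) [Category.{v} A] [Abelian A] (p : ℤ) : FilD.FilF A ⥤ A :=
  (FilD.IsFinFil A).ι ⋙ (evaluation ℤᵒᵖ A).obj (op p)

/-- a levelwise quasi-isomorphism is a filtered quasi-isomorphism. -/
lemma filteredQuasiIso_of_levels {K L : CochainComplex (FilD.FilF A) ℤ} (φ : K ⟶ L)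
    (h : ∀ p, QuasiIso (((lvl A p).mapHomologicalComplex _).map φ)) :
    FilD.IsFilteredQuasiIso φ := by
  intro p
  let τ : lvl A (p + 1) ⟶ lvl A p :=
    { app := fun X => st X.obj p, naturality := fun X Y f => (st_naturality f.hom p).symm }
  let σ : lvl A p ⟶ FilD.grF A p :=
    { app := fun X => grπ X.obj p, naturality := fun X Y f => (grπ_naturality f.hom p).symm }
  let S : CochainComplex (FilD.FilF A) ℤ → ShortComplex (CochainComplex A ℤ) := fun M =>
    ShortComplex.mk ((NatTrans.mapHomologicalComplex τ (ComplexShape.up ℤ)).app M)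
      ((NatTrans.mapHomologicalComplex σ (ComplexShape.up ℤ)).app M)
      (by ext i; exact st_grπ _ _)
  have hS : ∀ M, (S M).ShortExact := fun M => by
    refine shortExact_of_degreewise_shortExact _ (fun i => ?_)
    have : Mono ((S M).map (eval A _ i)).f := mono_st (M.X i) p
    have : Epi ((S M).map (eval A _ i)).g := inferInstanceAs (Epi (grπ (M.X i).obj p))
    exact ShortComplex.ShortExact.mk
      (ShortComplex.exact_cokernel ((M.X i).obj.map (FilD.stepHom p)))
  let Φ : S K ⟶ S L := ShortComplex.homMk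
    (((lvl A (p + 1)).mapHomologicalComplex _).map φ) (((lvl A p).mapHomologicalComplex _).map φ)
    ((FilD.grCx p).map φ) ((NatTrans.mapHomologicalComplex τ _).naturality φ)
    ((NatTrans.mapHomologicalComplex σ _).naturality φ)
  exact HomologySequence.quasiIso_τ₃ Φ (hS K) (hS L) (h (p + 1)) (h p)

/-- a complex in `Fil^f` from one in functors with finite filtered terms. -/
noncomputable def liftCx (T : CochainComplex (ℤᵒᵖ ⥤ A) ℤ) (h : ∀ n, FilD.IsFinFil A (T.X n)) :
    CochainComplex (FilD.FilF A) ℤ where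
  X n := ⟨T.X n, h n⟩
  d i j := ⟨T.d i j⟩
  shape i j hij := ObjectProperty.hom_ext _ (T.shape i j hij)
  d_comp_d' i j k _ _ := ObjectProperty.hom_ext _ (T.d_comp_d i j k)

/-- the underlying complex of functors. -/
noncomputable abbrev under (K : CochainComplex (FilD.FilF A) ℤ) : CochainComplex (ℤᵒᵖ ⥤ A) ℤ :=
  ((FilD.IsFinFil A).ι.mapHomologicalComplex _).obj K

/-- graded exactness gives exactness of the underlying complex. -/
lemma under_exactAt (K : CochainComplex (FilD.FilF A) ℤ) (n : ℤ)
    (h : ∀ p, ((FilD.grCx p).obj K).ExactAt n) :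
    (under K).ExactAt n ∧ FilD.IsStrict (K.d (n - 1) n) ∧ FilD.IsStrict (K.d n (n + 1)) := by
  have hex : ∀ p, ((ShortComplex.mk (K.d (n - 1) n) (K.d n (n + 1))
      (K.d_comp_d _ _ _)).map (FilD.grF A p)).Exact := fun p =>
    (exactAt_iff' ((FilD.grCx p).obj K) (n - 1) n (n + 1) (by simp) (by simp)).1 (h p)
  obtain ⟨h1, h2, h3⟩ := exact_and_strict_of_gr _ hex
  refine ⟨?_, h2, h3⟩
  rw [exactAt_iff' _ (n - 1) n (n + 1) (by simp) (by simp), ShortComplex.exact_iff_isZero_homology,
    Functor.isZero_iff]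
  rintro ⟨p⟩
  exact ((ShortComplex.exact_iff_isZero_homology _).1 (h1 p)).of_iso
    (((under K).sc' (n - 1) n (n + 1)).mapHomologyIso ((evaluation ℤᵒᵖ A).obj (op p))).symm

/-- S1087. -/
lemma exists_truncGE (K : CochainComplex (FilD.FilF A) ℤ) (a : ℤ)
    (hK : ∀ (p n : ℤ), n < a → IsZero (((FilD.grCx p).obj K).homology n)) :
    ∃ (L : CochainComplex (FilD.FilF A) ℤ) (φ : K ⟶ L),
      L.IsStrictlyGE a ∧ FilD.IsFilteredQuasiIso φ := by
  have hex : ∀ n, n < a → ∀ p, ((FilD.grCx p).obj K).ExactAt n := fun n hn p =>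
    (exactAt_iff_isZero_homology _ _).2 (hK p n hn)
  have : (under K).IsGE a :=
    ((under K).isGE_iff a).2 (fun n hn => (under_exactAt K n (hex n hn)).1)
  have hfin : ∀ n, FilD.IsFinFil A (((under K).truncGE a).X n) := by
    intro n
    rcases lt_trichotomy n a with h | rfl | h
    · obtain ⟨Z, hZ, hZp⟩ := ObjectProperty.ContainsZero.exists_zero (P := FilD.IsFinFil A)
      exact finFil_of_iso (hZ.iso (CochainComplex.isZero_of_isStrictlyGE _ a n h)) hZp
    · have hs : FilD.IsStrict (K.d (n - 1) n) := by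
        have := (under_exactAt K (n - 1) (hex _ (by omega))).2.2
        rwa [sub_add_cancel] at this
      exact finFil_of_iso ((CochainComplex.truncGEXIsoOpcycles (under K) n) ≪≫
        (IsColimit.coconePointUniqueUpToIso ((under K).opcyclesIsCokernel (n - 1) n (by simp))
          (cokernelIsCokernel ((under K).d (n - 1) n)))).symm (finFil_cokernel _ hs)
    · exact finFil_of_iso (CochainComplex.truncGEXIso (under K) a n h).symm (K.X n).property
  let φ : K ⟶ liftCx _ hfin :=
    { f := fun n => ⟨((under K).πTruncGE a).f n⟩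
      comm' := fun i j _ => ObjectProperty.hom_ext _ (((under K).πTruncGE a).comm i j) }
  refine ⟨_, φ, ?_, filteredQuasiIso_of_levels φ (fun p => ?_)⟩
  · exact (CochainComplex.isStrictlyGE_iff _ a).2 (fun n hn => (IsZero.iff_id_eq_zero _).2
      (ObjectProperty.hom_ext _
        ((CochainComplex.isZero_of_isStrictlyGE ((under K).truncGE a) a n hn).eq_of_src _ _)))
  · exact inferInstanceAs (QuasiIso ((((evaluation ℤᵒᵖ A).obj (op p)).mapHomologicalComplex _).map
      ((under K).πTruncGE a)))

/-- S1088. -/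
lemma exists_truncLE (K : CochainComplex (FilD.FilF A) ℤ) (b : ℤ)
    (hK : ∀ (p n : ℤ), b < n → IsZero (((FilD.grCx p).obj K).homology n)) :
    ∃ (M : CochainComplex (FilD.FilF A) ℤ) (φ : M ⟶ K),
      M.IsStrictlyLE b ∧ FilD.IsFilteredQuasiIso φ := by
  have hex : ∀ n, b < n → ∀ p, ((FilD.grCx p).obj K).ExactAt n := fun n hn p =>
    (exactAt_iff_isZero_homology _ _).2 (hK p n hn)
  have : (under K).IsLE b :=
    ((under K).isLE_iff b).2 (fun n hn => (under_exactAt K n (hex n hn)).1)
  have hfin : ∀ n, FilD.IsFinFil A (((under K).truncLE b).X n) := by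
    intro n
    rcases lt_trichotomy n b with h | rfl | h
    · exact finFil_of_iso (CochainComplex.truncLEXIso (under K) b n h).symm (K.X n).property
    · exact finFil_of_iso ((CochainComplex.truncLEXIsoCycles (under K) n) ≪≫
        (IsLimit.conePointUniqueUpToIso ((under K).cyclesIsKernel n (n + 1) (by simp))
          (kernelIsKernel ((under K).d n (n + 1))))).symm (finFil_kernel (K.d n (n + 1)))
    · obtain ⟨Z, hZ, hZp⟩ := ObjectProperty.ContainsZero.exists_zero (P := FilD.IsFinFil A)
      exact finFil_of_iso (hZ.iso (CochainComplex.isZero_of_isStrictlyLE _ b n h)) hZp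
  let φ : liftCx _ hfin ⟶ K :=
    { f := fun n => ⟨((under K).ιTruncLE b).f n⟩
      comm' := fun i j _ => ObjectProperty.hom_ext _ (((under K).ιTruncLE b).comm i j) }
  refine ⟨_, φ, ?_, filteredQuasiIso_of_levels φ (fun p => ?_)⟩
  · exact (CochainComplex.isStrictlyLE_iff _ b).2 (fun n hn => (IsZero.iff_id_eq_zero _).2
      (ObjectProperty.hom_ext _
        ((CochainComplex.isZero_of_isStrictlyLE ((under K).truncLE b) b n hn).eq_of_src _ _)))
  · exact inferInstanceAs (QuasiIso ((((evaluation ℤᵒᵖ A).obj (op p)).mapHomologicalComplex _).map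
      ((under K).ιTruncLE b)))

end Groth.Agent.FilD41
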