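import Groth.Agent.FilD41.Homotopy
import Groth.Agent.FilD41.Truncation
import Mathlib.Algebra.Homology.HomologicalComplexBiprod

set_option autoImplicit false
set_option linter.unusedSectionVars false
universe v u

open CategoryTheory CategoryTheory.Limits Opposite HomologicalComplex
open CochainComplex (mappingCone)

namespace Groth.Agent.FilD41

variable {A : Type u} [Category.{v} A] [Abelian A]

attribute [local instance] hasBinaryBiproducts

/-- a short complex whose first graded map presents the cokernel through a graded monomorphism. -/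
lemma gr_exact_cokernel {X Y Q Z : FilD.FilF A} (δ : X ⟶ Y) (π : Y ⟶ Q) (hδπ : δ ≫ π = 0)
    (hπ : ∀ p, Epi (π.hom.app (op p)))
    (hex : ∀ p ⦃T : A⦄ (y : T ⟶ Y.obj.obj (op p)), y ≫ π.hom.app (op p) = 0 →
      ∃ (T' : A) (ρ : T' ⟶ T) (_ : Epi ρ) (x : T' ⟶ X.obj.obj (op p)),
        ρ ≫ y = x ≫ δ.hom.app (op p))
    (g : Y ⟶ Z) (hg : δ ≫ g = 0) {E : FilD.FilF A} (u : Q ⟶ E)
    (hu : ∀ p, Mono ((FilD.grF A p).map u)) (r : Z ⟶ E) (hr : g ≫ r = π ≫ u) (p : ℤ) :
    ((ShortComplex.mk δ g hg).map (FilD.grF A p)).Exact := by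
  change (((ShortComplex.mk δ g hg).map (FilD.IsFinFil A).ι).map (FilD.gr A p)).Exact
  rw [gr_exact_iff]
  intro T (y : T ⟶ Y.obj.obj (op p)) (z : T ⟶ Z.obj.obj (op (p + 1)))
    (hyz : y ≫ g.hom.app (op p) = z ≫ st Z.obj p)
  have hr' : g.hom.app (op p) ≫ r.hom.app (op p) = π.hom.app (op p) ≫ u.hom.app (op p) :=
    congr_arg (fun t : Y ⟶ E => t.hom.app (op p)) hr
  obtain ⟨T₁, π₁, hπ₁, q, hq⟩ := (gr_mono_iff u.hom p).1 (hu p) (y ≫ π.hom.app (op p))
    (z ≫ r.hom.app (op (p + 1))) (by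
      rw [Category.assoc, ← hr', reassoc_of% hyz, st_naturality r.hom p, Category.assoc])
  have := hπ (p + 1)
  obtain ⟨T₂, π₂, hπ₂, y', hy'⟩ := surjective_up_to_refinements_of_epi (π.hom.app (op (p + 1))) q
  obtain ⟨T₃, π₃, hπ₃, x, hx⟩ := hex p (π₂ ≫ π₁ ≫ y - y' ≫ st Y.obj p) (by
    simp only [Preadditive.sub_comp, Category.assoc, hq, st_naturality π.hom p,
      ← reassoc_of% hy', sub_self])
  refine ⟨T₃, π₃ ≫ π₂ ≫ π₁, inferInstance, x, π₃ ≫ y', ?_⟩
  change (π₃ ≫ π₂ ≫ π₁) ≫ y = x ≫ δ.hom.app (op p) + (π₃ ≫ y') ≫ st Y.obj p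
  rw [← hx]
  simp

/-- right exactness of `gr` on levelwise short exact sequences. -/
lemma gr_exact_of_levels (S : ShortComplex (FilD.FilF A))
    (hS : ∀ p : ℤ, (S.map ((FilD.IsFinFil A).ι ⋙ (evaluation ℤᵒᵖ A).obj (op p))).ShortExact)
    (p : ℤ) : (S.map (FilD.grF A p)).Exact := by
  change ((S.map (FilD.IsFinFil A).ι).map (FilD.gr A p)).Exact
  rw [gr_exact_iff]
  intro T (y : T ⟶ S.X₂.obj.obj (op p)) (z : T ⟶ S.X₃.obj.obj (op (p + 1)))
    (hyz : y ≫ S.g.hom.app (op p) = z ≫ st S.X₃.obj p)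
  have : Epi (S.g.hom.app (op (p + 1))) := (hS (p + 1)).epi_g
  obtain ⟨T₁, π₁, hπ₁, y', hy'⟩ := surjective_up_to_refinements_of_epi (S.g.hom.app (op (p + 1))) z
  obtain ⟨T₂, π₂, hπ₂, (x : T₂ ⟶ S.X₁.obj.obj (op p)),
    (hx : π₂ ≫ (π₁ ≫ y - y' ≫ st S.X₂.obj p) = x ≫ S.f.hom.app (op p))⟩ :=
    (hS p).exact.exact_up_to_refinements (π₁ ≫ y - y' ≫ st S.X₂.obj p) (by
      change (π₁ ≫ y - y' ≫ st S.X₂.obj p) ≫ S.g.hom.app (op p) = 0
      simp only [Preadditive.sub_comp, Category.assoc, hyz, st_naturality S.g.hom p,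
        ← reassoc_of% hy', sub_self])
  refine ⟨T₂, π₂ ≫ π₁, inferInstance, x, π₂ ≫ y', ?_⟩
  change (π₂ ≫ π₁) ≫ y = x ≫ S.f.hom.app (op p) + (π₂ ≫ y') ≫ st S.X₂.obj p
  rw [← hx]
  simp

lemma strict_zero {X Y : FilD.FilF A} : FilD.IsStrict (0 : X ⟶ Y) := by
  refine isStrict_of_step _ (fun q T x y hxy => ⟨T, 𝟙 T, inferInstance, 0, ?_⟩)
  have := mono_st Y q
  rw [Category.id_comp, zero_comp, ← cancel_mono (st Y.obj q), zero_comp, ← hxy]
  simp

variable (K : CochainComplex (FilD.FilF A) ℤ)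

/-- differential of the cone under construction. -/
noncomputable def coneD (n : ℤ) {I I' : FilD.FilF A} (w : K.X (n + 1) ⊞ I ⟶ I') :
    K.X (n + 1) ⊞ I ⟶ K.X (n + 1 + 1) ⊞ I' :=
  biprod.lift (-(biprod.fst ≫ K.d (n + 1) (n + 1 + 1))) w

/-- terms of a mapping cone. -/
noncomputable def coneXIso {I : CochainComplex (FilD.FilF A) ℤ} (φ : K ⟶ I) (m : ℤ) :
    K.X (m + 1) ⊞ I.X m ≅ (mappingCone φ).X m where
  hom := biprod.desc ((CochainComplex.mappingCone.inl φ).v (m + 1) m (by omega))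
    ((CochainComplex.mappingCone.inr φ).f m)
  inv := biprod.lift ((CochainComplex.mappingCone.fst φ).1.v m (m + 1) rfl)
    ((CochainComplex.mappingCone.snd φ).v m m (add_zero m))
  hom_inv_id := by apply biprod.hom_ext' <;> apply biprod.hom_ext <;> simp
  inv_hom_id := by rw [biprod.lift_desc]; exact CochainComplex.mappingCone.id_X φ m (m + 1) rfl

lemma coneXIso_comm {I : CochainComplex (FilD.FilF A) ℤ} (φ : K ⟶ I) (m : ℤ)
    (w : K.X (m + 1) ⊞ I.X m ⟶ I.X (m + 1)) (h1 : φ.f (m + 1) = biprod.inl ≫ w)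
    (h2 : I.d m (m + 1) = biprod.inr ≫ w) :
    (coneXIso K φ m).hom ≫ (mappingCone φ).d m (m + 1) =
      coneD K m w ≫ (coneXIso K φ (m + 1)).hom := by
  apply biprod.hom_ext'
  · simp [coneXIso, coneD, h1,
      CochainComplex.mappingCone.inl_v_d φ (m + 1) m (m + 1 + 1) (by omega) (by omega),
      biprod.lift_desc, Preadditive.comp_add]
    abel
  · simp [coneXIso, coneD, h2, biprod.lift_desc, Preadditive.comp_add]

/-- the glued map is a filtered quasi-isomorphism. -/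
lemma resolution_qiso {I : CochainComplex (FilD.FilF A) ℤ} (φ : K ⟶ I)
    (w : ∀ n, K.X (n + 1) ⊞ I.X n ⟶ I.X (n + 1)) (h1 : ∀ n, φ.f (n + 1) = biprod.inl ≫ w n)
    (h2 : ∀ n, I.d n (n + 1) = biprod.inr ≫ w n) (X : ℤ → FilD.FilF A)
    (δ : ∀ n, X n ⟶ K.X (n + 1) ⊞ I.X n) (h : ∀ n, δ n ≫ coneD K n (w n) = 0)
    (e : ∀ n, X (n + 1) ≅ K.X (n + 1) ⊞ I.X n) (hδ : ∀ n, δ (n + 1) = (e n).hom ≫ coneD K n (w n))
    (hex : ∀ n q, ((ShortComplex.mk _ _ (h n)).map (FilD.grF A q)).Exact) :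
    FilD.IsFilteredQuasiIso φ := by
  intro p
  refine Groth.Agent.PCoh41.quasiIso_of_nqiso _ (fun _ i _ => ?_)
  obtain ⟨n, rfl⟩ : ∃ n, i = n + 1 := ⟨i - 1, by omega⟩
  refine IsZero.of_iso ?_ ((homologyFunctor A _ (n + 1)).mapIso
    (CochainComplex.mappingCone.mapHomologicalComplexIso φ (FilD.grF A p))).symm
  refine (exactAt_iff_isZero_homology _ _).1 ?_
  rw [exactAt_iff' _ n (n + 1) (n + 1 + 1) (by simp) (by simp)]
  have hε : ∀ m, (coneXIso K φ m).hom ≫ (mappingCone φ).d m (m + 1) =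
      coneD K m (w m) ≫ (coneXIso K φ (m + 1)).hom := fun m =>
    coneXIso_comm K φ m (w m) (h1 m) (h2 m)
  let ι₀ := ShortComplex.isoMk
    (S₁ := ShortComplex.mk (δ (n + 1)) (coneD K (n + 1) (w (n + 1))) (h (n + 1)))
    (S₂ := (mappingCone φ).sc' n (n + 1) (n + 1 + 1))
    (e n ≪≫ coneXIso K φ n) (coneXIso K φ (n + 1)) (coneXIso K φ (n + 1 + 1))
    (by
      change ((e n).hom ≫ (coneXIso K φ n).hom) ≫ (mappingCone φ).d n (n + 1) =
        δ (n + 1) ≫ (coneXIso K φ (n + 1)).hom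
      rw [Category.assoc, hε n, hδ n, Category.assoc])
    (hε (n + 1))
  have key : (((mappingCone φ).sc' n (n + 1) (n + 1 + 1)).map (FilD.grF A p)).Exact :=
    ShortComplex.exact_of_iso ((FilD.grF A p).mapShortComplex.mapIso ι₀) (hex (n + 1) p)
  exact key

/-- state of the construction of a resolution. -/
structure State (n : ℤ) where
  I : FilD.FilF A
  X : FilD.FilF A
  δ : X ⟶ K.X (n + 1) ⊞ I
  inj : FilD.IsFilteredInjective I
  strict : FilD.IsStrict δ
  comm : δ ≫ biprod.fst ≫ K.d (n + 1) (n + 1 + 1) = 0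

/-- transition of states. -/
def Next (n : ℤ) (t : State K n) (t' : State K (n + 1)) : Prop :=
  ∃ (w : K.X (n + 1) ⊞ t.I ⟶ t'.I) (e : t'.X ≅ K.X (n + 1) ⊞ t.I)
    (h : t.δ ≫ coneD K n w = 0),
    t'.δ = e.hom ≫ coneD K n w ∧ ∀ p, ((ShortComplex.mk _ _ h).map (FilD.grF A p)).Exact

lemma exists_next [EnoughInjectives A] (n : ℤ) (t : State K n) : ∃ t', Next K n t t' := by
  let Q : FilD.FilF A := ⟨cokernel t.δ.hom, finFil_cokernel t.δ t.strict⟩
  let π : K.X (n + 1) ⊞ t.I ⟶ Q := ⟨cokernel.π t.δ.hom⟩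
  have hπ : t.δ ≫ π = 0 := ObjectProperty.hom_ext _ (cokernel.condition t.δ.hom)
  obtain ⟨E, u, hE, hu⟩ := exists_embedding Q
  have h : t.δ ≫ coneD K n (π ≫ u) = 0 := by
    apply biprod.hom_ext <;> simp [coneD, t.comm, reassoc_of% hπ]
  have hex : ∀ p, ((ShortComplex.mk _ _ h).map (FilD.grF A p)).Exact :=
    gr_exact_cokernel t.δ π hπ (fun p => inferInstanceAs (Epi ((cokernel.π t.δ.hom).app (op p))))
      (fun p T y hy => ((ShortComplex.exact_cokernel t.δ.hom).map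
        ((evaluation ℤᵒᵖ A).obj (op p))).exact_up_to_refinements y hy)
      _ h u hu biprod.snd (by simp [coneD])
  exact ⟨{ I := E, X := K.X (n + 1) ⊞ t.I, δ := coneD K n (π ≫ u), inj := hE,
           strict := (exact_and_strict_of_gr _ hex).2.2, comm := by simp [coneD] },
    π ≫ u, Iso.refl _, h, (Category.id_comp _).symm, hex⟩

/-- a filtered injective resolution, without the degreewise mono condition. -/
lemma exists_resolution [EnoughInjectives A] (a : ℤ) [K.IsStrictlyGE a] :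
    ∃ (I : CochainComplex (FilD.FilF A) ℤ) (φ : K ⟶ I), I.IsStrictlyGE a ∧
      (∀ n, FilD.IsFilteredInjective (I.X n)) ∧ FilD.IsFilteredQuasiIso φ := by
  obtain ⟨Z, hZ, hZp⟩ := ObjectProperty.ContainsZero.exists_zero (P := FilD.IsFinFil A)
  let O : FilD.FilF A := ⟨Z, hZp⟩
  have hO : IsZero O := isZero_of_id hZ
  have hK0 : ∀ m, m < a → IsZero (K.X m) := fun m hm => K.isZero_of_isStrictlyGE a m hm
  let zs : ∀ n, State K n := fun n =>
    { I := O, X := O, δ := 0, inj := injective_zero hO, strict := strict_zero, comm := zero_comp }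
  obtain ⟨g, hg⟩ := exists_chain_up
    (T := fun n => { t : State K n // n ≤ a - 1 → IsZero t.I })
    (fun n t t' => Next K n t.1 t'.1) (a - 1)
    (fun n _ => ⟨zs n, fun _ => hO⟩)
    (fun n hn => by
      have hz : IsZero (K.X (n + 1) ⊞ O) := (biprod_isZero_iff _ _).2 ⟨hK0 _ (by omega), hO⟩
      exact ⟨0, hO.iso hz, hO.eq_of_src _ _, hO.eq_of_src _ _,
        fun p => ShortComplex.exact_of_isZero_X₂ _ ((FilD.grF A p).map_isZero hz)⟩)
    (fun n t => by
      obtain ⟨t', ht'⟩ := exists_next K n t.1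
      by_cases hn : n + 1 ≤ a - 1
      · have hz : IsZero (K.X (n + 1) ⊞ t.1.I) :=
          (biprod_isZero_iff _ _).2 ⟨hK0 _ (by omega), t.2 (by omega)⟩
        have h0 : t.1.δ ≫ coneD K n (hz.to_ O : K.X (n + 1) ⊞ t.1.I ⟶ O) = 0 := by
          rw [hz.eq_of_tgt t.1.δ 0, zero_comp]
        exact ⟨⟨zs (n + 1), fun _ => hO⟩, hz.to_ O, hO.iso hz, h0, hO.eq_of_src _ _,
          fun p => ShortComplex.exact_of_isZero_X₂ _ ((FilD.grF A p).map_isZero hz)⟩
      · exact ⟨⟨t', fun h => absurd h hn⟩, ht'⟩)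
  choose w e h hδ hex using hg
  let I₀ : ℤ → FilD.FilF A := fun n => (g n).1.I
  have hMM : ∀ n, coneD K n (w n) ≫ coneD K (n + 1) (w (n + 1)) = 0 := fun n => by
    have := h (n + 1)
    rw [hδ n, Category.assoc] at this
    exact (cancel_epi (e n).hom).1 (this.trans comp_zero.symm)
  let dI : ∀ n, I₀ n ⟶ I₀ (n + 1) := fun n => biprod.inr ≫ w n
  have hw : ∀ n, (biprod.inl ≫ w n) ≫ dI (n + 1) =
      K.d (n + 1) (n + 1 + 1) ≫ biprod.inl ≫ w (n + 1) := fun n => by
    have := biprod.inl ≫= hMM n =≫ biprod.snd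
    simp [coneD, biprod.lift_eq, Preadditive.comp_add, Preadditive.add_comp] at this
    rw [neg_add_eq_zero] at this
    simpa [dI] using this.symm
  have hdd : ∀ n, dI n ≫ dI (n + 1) = 0 := fun n => by
    have := biprod.inr ≫= hMM n =≫ biprod.snd
    simp [coneD, biprod.lift_eq, Preadditive.comp_add, Preadditive.add_comp] at this
    simpa [dI] using this
  let I : CochainComplex (FilD.FilF A) ℤ := CochainComplex.of I₀ dI hdd
  have hId : ∀ n, I.d n (n + 1) = dI n := fun n => CochainComplex.of_d I₀ dI n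
  let φf : ∀ n, K.X n ⟶ I.X n := fun n =>
    (K.XIsoOfEq (sub_add_cancel n 1)).inv ≫ biprod.inl ≫ w (n - 1) ≫
      (I.XIsoOfEq (sub_add_cancel n 1)).hom
  have hφf : ∀ n, φf (n + 1) = biprod.inl ≫ w n := by
    suffices ∀ (n m : ℤ) (hm : m + 1 = n + 1),
        (K.XIsoOfEq hm).inv ≫ biprod.inl ≫ w m ≫ (I.XIsoOfEq hm).hom = biprod.inl ≫ w n from
      fun n => this n _ _
    intro n m hm
    obtain rfl : m = n := by omega
    simp
    exact congrArg (fun t => biprod.inl ≫ t) (Category.comp_id (w m))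
  let φ : K ⟶ I :=
    { f := φf
      comm' := fun i j (hij : i + 1 = j) => by
        subst hij
        obtain ⟨n, rfl⟩ : ∃ n, i = n + 1 := ⟨i - 1, by omega⟩
        rw [hφf, hφf, hId]
        exact hw n }
  refine ⟨I, φ, ?_, fun n => (g n).1.inj, fun p => ?_⟩
  · exact (CochainComplex.isStrictlyGE_iff _ a).2 (fun n hn => (g n).2 (by omega))
  · exact resolution_qiso K φ w (fun n => hφf n) (fun n => hId n) (fun n => (g n).1.X)
      (fun n => (g n).1.δ) h e hδ (fun n q => hex n q) p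

/-- S1082. -/
lemma exists_resolution_mono [EnoughInjectives A] (a : ℤ) [K.IsStrictlyGE a] :
    ∃ (I : CochainComplex (FilD.FilF A) ℤ) (a' : ℤ) (φ : K ⟶ I), I.IsStrictlyGE a' ∧
      (∀ n, FilD.IsFilteredInjective (I.X n)) ∧
      FilD.IsFilteredQuasiIso φ ∧ ∀ n, Mono (φ.f n) ∧ FilD.IsStrict (φ.f n) := by
  obtain ⟨I, φ, hge, hinj, hφ⟩ := exists_resolution K a
  have hemb : ∀ n, ∃ (E : FilD.FilF A) (u : K.X n ⟶ E), FilD.IsFilteredInjective E ∧
      (∀ p, Mono ((FilD.grF A p).map u)) ∧ (n < a → IsZero E) := by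
    intro n
    by_cases hn : n < a
    · have hz := K.isZero_of_isStrictlyGE a n hn
      exact ⟨_, 𝟙 _, injective_zero hz, fun p => by rw [(FilD.grF A p).map_id]; infer_instance,
        fun _ => hz⟩
    · obtain ⟨E, u, hE, hu⟩ := exists_embedding (K.X n)
      exact ⟨E, u, hE, hu, fun h => absurd h hn⟩
  choose E u hE hu hEz using hemb
  let E' : CochainComplex (FilD.FilF A) ℤ := CochainComplex.of E (fun _ => 0) (fun _ => comp_zero)
  have hE'd : ∀ i j, E'.d i j = 0 := fun i j => by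
    by_cases h : i + 1 = j
    · subst h; exact CochainComplex.of_d E (fun _ => 0) i
    · exact E'.shape i j h
  let Cn := mappingCone (𝟙 E')
  let c : K ⟶ Cn := CochainComplex.mappingCone.lift (𝟙 E')
    (CochainComplex.HomComplex.Cocycle.mk
      (CochainComplex.HomComplex.Cochain.mk fun i j (hij : i + 1 = j) => K.d i j ≫ u j)
      2 rfl (by
        ext i _ rfl
        simp [CochainComplex.HomComplex.δ_v 1 2 rfl _ i (i + 2) rfl (i + 1) (i + 1) (by omega) rfl,
          hE'd]))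
    (CochainComplex.HomComplex.Cochain.ofHoms u) (by
      ext i _ rfl
      simp [CochainComplex.HomComplex.δ_v 0 1 rfl _ i (i + 1) rfl i (i + 1) (by omega) rfl, hE'd])
  have hCn : FilD.IsFilteredAcyclic Cn := acyclic_mappingCone (𝟙 E') (fun p => by
    rw [(FilD.grCx p).map_id]; infer_instance)
  refine ⟨I ⊞ Cn, a - 1, biprod.lift φ c, ?_, fun n => ?_, fun p => ?_, fun n => ?_⟩
  · refine (CochainComplex.isStrictlyGE_iff _ _).2 (fun n hn => ?_)
    exact ((biprod_isZero_iff _ _).2 ⟨I.isZero_of_isStrictlyGE a n (by omega),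
      (CochainComplex.mappingCone.isZero_X_iff (𝟙 E') n).2 ⟨hEz _ (by omega), hEz _ (by omega)⟩⟩).of_iso
      (HomologicalComplex.biprodXIso I Cn n)
  · have e : (I ⊞ Cn).X n ≅ I.X n ⊞ (E'.X (n + 1) ⊞ E'.X n) :=
      HomologicalComplex.biprodXIso I Cn n ≪≫
        biprod.mapIso (Iso.refl _) (homotopyCofiber.XIsoBiprod (𝟙 E') n (n + 1) rfl)
    intro p
    have := injective_biprod (hinj n) (injective_biprod (hE (n + 1)) (hE n)) p
    exact Injective.of_iso ((FilD.grF A p).mapIso e).symm this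
  · have := hφ p
    let f := (FilD.grCx p).map (biprod.fst : I ⊞ Cn ⟶ I)
    have hf : QuasiIso f := by
      refine ⟨fun i => (quasiIsoAt_iff_isIso_homologyMap _ _).2 ?_⟩
      have hz := (exactAt_iff_isZero_homology _ _).1 (hCn p i)
      refine ⟨homologyMap ((FilD.grCx p).map (biprod.inl : I ⟶ I ⊞ Cn)) i, ?_, ?_⟩
      · have key : (homologyFunctor A _ i).map ((FilD.grCx p).map
            (biprod.fst ≫ biprod.inl + biprod.snd ≫ biprod.inr : I ⊞ Cn ⟶ I ⊞ Cn)) = 𝟙 _ := by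
          rw [biprod.total, (FilD.grCx p).map_id, CategoryTheory.Functor.map_id]
        rw [Functor.map_add, Functor.map_add, Functor.map_comp, Functor.map_comp, Functor.map_comp,
          Functor.map_comp] at key
        rw [hz.eq_of_src ((homologyFunctor A _ i).map ((FilD.grCx p).map
          (biprod.inr : Cn ⟶ I ⊞ Cn))) 0] at key
        erw [comp_zero, add_zero] at key
        exact key
      · rw [← homologyMap_comp, ← Functor.map_comp, biprod.inl_fst, (FilD.grCx p).map_id,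
          homologyMap_id]
    have : QuasiIso ((FilD.grCx p).map (biprod.lift φ c) ≫ f) := by
      rw [← Functor.map_comp, biprod.lift_fst]; exact hφ p
    exact quasiIso_of_comp_right _ f
  · apply strictMono_of_gr
    intro p
    have hm : (biprod.lift φ c).f n ≫ (biprod.snd : I ⊞ Cn ⟶ Cn).f n ≫
        (CochainComplex.mappingCone.snd (𝟙 E')).v n n (add_zero n) = u n := by
      rw [← comp_f_assoc, biprod.lift_snd]
      simp [c]
    have : Mono ((FilD.grF A p).map ((biprod.lift φ c).f n) ≫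
        (FilD.grF A p).map ((biprod.snd : I ⊞ Cn ⟶ Cn).f n ≫
          (CochainComplex.mappingCone.snd (𝟙 E')).v n n (add_zero n))) := by
      rw [← Functor.map_comp, hm]; exact hu n p
    exact mono_of_mono _ ((FilD.grF A p).map ((biprod.snd : I ⊞ Cn ⟶ Cn).f n ≫
          (CochainComplex.mappingCone.snd (𝟙 E')).v n n (add_zero n)))

end Groth.Agent.FilD41
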